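import Groth.Agent.H20PLie.Jacobson
import Groth.Agent.H20PBW.Basic
import Mathlib.Algebra.CharP.Lemmas
import Mathlib.Algebra.CharP.Frobenius
import Mathlib.SetTheory.Cardinal.Order

/-!
`p`-mappings with prescribed values on a basis.
-/

set_option autoImplicit false

universe u v w

namespace Groth.Agent.H20PLie

noncomputable section

variable {R : Type u} [CommRing R] {p : ℕ} [hp : Fact p.Prime] [CharP R p] {L : Type v} [LieRing L] [LieAlgebra R L]
  {ι : Type w} (b : Module.Basis ι R L)

/-- the `p`-semilinear map with given values on a basis -/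
def semi {M : Type*} [AddCommGroup M] [Module R M] (d : ι → M) (x : L) : M :=
  Finsupp.linearCombination R d ((b.repr x).mapRange (frobenius R p) (map_zero _))

section

variable {M : Type*} [AddCommGroup M] [Module R M] (d : ι → M)

theorem semi_add (x y : L) : semi (p := p) b d (x + y) = semi (p := p) b d x + semi (p := p) b d y := by
  rw [semi, map_add, Finsupp.mapRange_add (map_add (frobenius R p)), map_add]
  rfl

theorem semi_smul (c : R) (x : L) : semi (p := p) b d (c • x) = c ^ p • semi (p := p) b d x := by
  rw [semi, semi, ← map_smul]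
  congr 1
  ext i
  simp [frobenius_def, mul_pow]

theorem semi_basis (i : ι) : semi (p := p) b d (b i) = d i := by
  simp [semi, frobenius_def]

theorem semi_eq {D : L → M} (hadd : ∀ x y, D (x + y) = D x + D y) (hsmul : ∀ (c : R) x, D (c • x) = c ^ p • D x)
    (x : L) : D x = semi (p := p) b (fun i => D (b i)) x := by
  have h0 : D 0 = 0 := by simpa [hp.out.ne_zero] using hsmul 0 0
  induction b.mem_span x using Submodule.span_induction with
  | mem y hy => obtain ⟨i, rfl⟩ := hy; rw [semi_basis]
  | zero => rw [h0]; simp [semi]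
  | add y z _ _ hy hz => rw [hadd, semi_add, hy, hz]
  | smul c y _ hy => rw [hsmul, semi_smul, hy]

end

theorem unique_pmap {φ ψ : PLie.PMap R p L} (h : ∀ i, φ (b i) = ψ (b i)) : φ = ψ := by
  have hD : ∀ x, φ x - ψ x = 0 := by
    intro x
    rw [semi_eq (p := p) b (D := fun x => φ x - ψ x) (fun x y => by
      rw [φ.map_add, ψ.map_add]; abel) (fun c x => by rw [φ.map_smul, ψ.map_smul, smul_sub])]
    simp [semi, h, Finsupp.linearCombination_apply]
  obtain ⟨f, _, _, _⟩ := φ
  obtain ⟨g, _, _, _⟩ := ψ
  have : f = g := funext fun x => sub_eq_zero.mp (hD x)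
  subst this; rfl

theorem exists_pmap_of_injective {A : Type*} [Ring A] [Algebra R A] {e : L →ₗ[R] A} (hinj : Function.Injective e)
    (he : ∀ x y : L, e ⁅x, y⁆ = e x * e y - e y * e x) (y : ι → L)
    (hy : ∀ i : ι, LieAlgebra.ad R L (b i) ^ p = LieAlgebra.ad R L (y i)) :
    ∃ φ : PLie.PMap R p L, ∀ i, φ (b i) = y i := by
  let d : ι → A := fun i => e (b i) ^ p - e (y i)
  let z : L → A := semi (p := p) b d
  have hcom : ∀ i w, d i * e w = e w * d i := by
    intro i w
    have h := map_ad_prime he (b i) w
    rw [hy, LieAlgebra.ad_apply, he] at h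
    simp only [d]
    rw [sub_mul, mul_sub]
    linear_combination (norm := abel) -h
  have hzcom : ∀ x w, z x * e w = e w * z x := by
    intro x w
    simp only [z, semi, Finsupp.linearCombination_apply, Finsupp.sum, Finset.sum_mul, Finset.mul_sum,
      smul_mul_assoc, mul_smul_comm, hcom]
  let D : L → A := fun x => e x ^ p - z x
  have hDadd : ∀ x y, D (x + y) = D x + D y - e (PLie.jacobson R p x y) := by
    intro x y
    simp only [D, z]
    rw [map_add, map_pow_add he, semi_add]
    abel
  have hDsmul : ∀ (c : R) x, D (c • x) = c ^ p • D x := by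
    intro c x
    simp only [D, z]
    rw [map_smul, smul_pow, semi_smul, smul_sub]
  have hmem : ∀ x, ∃ w, e w = D x := by
    intro x
    induction b.mem_span x using Submodule.span_induction with
    | mem v hv =>
      obtain ⟨i, rfl⟩ := hv
      refine ⟨y i, ?_⟩
      simp only [D, z, semi_basis, d]
      abel
    | zero => exact ⟨0, by simp [D, z, semi, hp.out.ne_zero]⟩
    | add v w _ _ hv hw =>
      obtain ⟨v', hv'⟩ := hv
      obtain ⟨w', hw'⟩ := hw
      exact ⟨v' + w' - PLie.jacobson R p v w, by rw [map_sub, map_add, hv', hw', hDadd]⟩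
    | smul c v _ hv =>
      obtain ⟨v', hv'⟩ := hv
      exact ⟨c ^ p • v', by rw [map_smul, hv', hDsmul]⟩
  choose f hf using hmem
  refine ⟨{ toFun := f, map_smul := fun c x => hinj ?_, ad_map := fun x => LinearMap.ext fun w => hinj ?_,
            map_add := fun x y => hinj ?_ }, fun i => hinj ?_⟩
  · rw [hf, map_smul, hf, hDsmul]
  · rw [map_ad_prime he, LieAlgebra.ad_apply, he, hf]
    simp only [D]
    rw [sub_mul, mul_sub, hzcom]
    abel
  · rw [hf, map_sub, map_add, hf, hf, hDadd]
  · rw [hf]
    simp only [D, z, semi_basis, d]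
    abel

open H20PBW

theorem exists_pmap (y : ι → L) (hy : ∀ i : ι, LieAlgebra.ad R L (b i) ^ p = LieAlgebra.ad R L (y i)) :
    ∃ φ : PLie.PMap R p L, ∀ i, φ (b i) = y i := by
  classical
  letI : LinearOrder ι := linearOrderOfSTO WellOrderingRel
  refine exists_pmap_of_injective b (A := Module.End R (P R ι)) (e := H20PBW.A b) ?_ ?_ y hy
  · intro x x' h
    have hx : ∀ v, H20PBW.A b v (z nilSL) = Finsupp.mapDomain (fun i => ins i nilSL) (b.repr v) := by
      intro v
      conv_lhs => rw [← b.linearCombination_repr v, Finsupp.linearCombination_apply, Finsupp.sum, map_sum,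
        LinearMap.sum_apply]
      rw [Finsupp.mapDomain, Finsupp.sum]
      refine Finset.sum_congr rfl fun i _ => ?_
      rw [map_smul, LinearMap.smul_apply, A_basis, act_of_le b (by simp [nilSL]), H20PBW.z, Finsupp.smul_single_one]
    have := LinearMap.congr_fun h (z nilSL)
    rw [hx, hx] at this
    refine b.repr.injective (Finsupp.mapDomain_injective (fun i j hij => ?_) this)
    simpa [ins, nilSL] using congrArg Subtype.val hij
  · intro x x'
    refine LinearMap.ext fun q => ?_
    rw [LinearMap.sub_apply, Module.End.mul_apply, Module.End.mul_apply]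
    exact (comm b q x x').symm

theorem existsUnique_pmap (y : ι → L) (hy : ∀ i : ι, LieAlgebra.ad R L (b i) ^ p = LieAlgebra.ad R L (y i)) :
    ∃! φ : PLie.PMap R p L, ∀ i, φ (b i) = y i := by
  obtain ⟨φ, hφ⟩ := exists_pmap b y hy
  exact ⟨φ, hφ, fun ψ hψ => unique_pmap b fun i => (hψ i).trans (hφ i).symm⟩

end

end Groth.Agent.H20PLie
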