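import Groth.Agent.H20PLie.Dim3
import Mathlib.Algebra.DualNumber
import Mathlib.FieldTheory.Finite.Basic

/-!
Restrictability of first-order deformations in dimension three.
-/

set_option autoImplicit false

universe u v

open DualNumber TrivSqZeroExt

namespace Groth.Agent.H20PLie

variable {K : Type u} [Field K] {p : ℕ} [hp : Fact p.Prime] [CharP K p] [CharP (DualNumber K) p]

section

variable {R : Type u} [CommRing R] {L : Type v} [LieRing L] [LieAlgebra R L]

theorem pow_odd_eq {T : Module.End R L} {s : R} (h3 : T ^ 3 = s • T) (n : ℕ) : T ^ (2 * n + 1) = s ^ n • T := by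
  induction n with
  | zero => simp
  | succ n ih =>
    rw [show 2 * (n + 1) + 1 = 2 * n + 1 + 2 by ring, pow_add, ih, smul_mul_assoc, ← pow_succ', h3, smul_smul,
      ← pow_succ]

end

variable {L : Type v} [LieRing L] [LieAlgebra (DualNumber K) L] (bs : Module.Basis (Fin 3) (DualNumber K) L)

theorem h3_deformation (a b c d e f g h i : K)
    (hxy : ⁅bs 0, bs 1⁆ = vec bs (a • ε : DualNumber K) (b • ε) (c • ε))
    (hxz : ⁅bs 0, bs 2⁆ = vec bs (d • ε : DualNumber K) (e • ε) (f • ε))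
    (hyz : ⁅bs 1, bs 2⁆ = vec bs (1 + g • ε : DualNumber K) (h • ε) (i • ε)) :
    Nonempty (PLie.PMap (DualNumber K) p L) ↔ (p = 2 → b = 0 ∧ c = 0 ∧ e = 0) := by
  obtain ⟨h0, h1, h2⟩ := basis_eq_vec bs
  have hb := lie_vec bs hxy hxz hyz
  rw [nonempty_pmap_iff bs]
  constructor
  · rintro hall rfl
    obtain ⟨w, hw⟩ := hall 1
    obtain ⟨α, β, γ, rfl⟩ := exists_vec bs w
    obtain ⟨w', hw'⟩ := hall 2
    obtain ⟨α', β', γ', rfl⟩ := exists_vec bs w'
    have ex := LinearMap.congr_fun hw (vec bs 1 0 0)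
    have ey := LinearMap.congr_fun hw (vec bs 0 1 0)
    have ez := LinearMap.congr_fun hw (vec bs 0 0 1)
    have fx := LinearMap.congr_fun hw' (vec bs 1 0 0)
    have fy := LinearMap.congr_fun hw' (vec bs 0 1 0)
    have fz := LinearMap.congr_fun hw' (vec bs 0 0 1)
    rw [pow_two, Module.End.mul_apply, LieAlgebra.ad_apply, LieAlgebra.ad_apply, LieAlgebra.ad_apply, h1, hb, hb, hb,
      vec_inj] at ex ey ez
    rw [pow_two, Module.End.mul_apply, LieAlgebra.ad_apply, LieAlgebra.ad_apply, LieAlgebra.ad_apply, h2, hb, hb, hb,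
      vec_inj] at fx fy fz
    simp [TrivSqZeroExt.ext_iff] at ex ey ez fx fy fz
    refine ⟨?_, ?_, ?_⟩ <;> grind
  · intro hcond k
    rcases (Fact.out : p.Prime).eq_two_or_odd' with hp2 | hodd
    · obtain ⟨rfl, rfl, rfl⟩ := hcond hp2
      subst hp2
      have hJ := lie_jacobi (bs 0) (bs 1) (bs 2)
      rw [show ⁅bs 2, bs 0⁆ = -⁅bs 0, bs 2⁆ from (lie_skew _ _).symm, hxy, hxz, hyz, h0, h1, h2, neg_vec, hb, hb, hb,
        ← vec_zero bs] at hJ
      simp only [vec] at hJ
      have e0 := congrArg bs.repr hJ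
      simp only [map_add, map_smul, map_zero, Module.Basis.repr_self, zero_smul, add_zero] at e0
      have hJ0 := Finsupp.ext_iff.mp e0 0
      have hJ1 := Finsupp.ext_iff.mp e0 1
      have hJ2 := Finsupp.ext_iff.mp e0 2
      simp [TrivSqZeroExt.ext_iff] at hJ0 hJ1 hJ2
      fin_cases k
      · refine ⟨0, ext_vec bs fun u v w => ?_⟩
        show (LieAlgebra.ad (DualNumber K) L (bs 0) ^ 2) _ = _
        rw [pow_two, Module.End.mul_apply, LieAlgebra.ad_apply, LieAlgebra.ad_apply, h0, hb, hb, map_zero,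
          LinearMap.zero_apply, ← vec_zero bs, vec_inj]
        refine ⟨?_, ?_, ?_⟩ <;> ext <;> simp <;> grind
      · refine ⟨((i - a) • ε : DualNumber K) • bs 1, ext_vec bs fun u v w => ?_⟩
        show (LieAlgebra.ad (DualNumber K) L (bs 1) ^ 2) _ = _
        rw [pow_two, Module.End.mul_apply, LieAlgebra.ad_apply, LieAlgebra.ad_apply, LieAlgebra.ad_apply, h1, smul_vec,
          hb, hb, hb, vec_inj]
        refine ⟨?_, ?_, ?_⟩ <;> ext <;> simp <;> grind
      · refine ⟨((-(d + h)) • ε : DualNumber K) • bs 2, ext_vec bs fun u v w => ?_⟩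
        show (LieAlgebra.ad (DualNumber K) L (bs 2) ^ 2) _ = _
        rw [pow_two, Module.End.mul_apply, LieAlgebra.ad_apply, LieAlgebra.ad_apply, LieAlgebra.ad_apply, h2, smul_vec,
          hb, hb, hb, vec_inj]
        refine ⟨?_, ?_, ?_⟩ <;> ext <;> simp <;> grind
    · obtain ⟨m, hm⟩ := hodd
      have hcube : ∀ (j : Fin 3) (s : DualNumber K), (∀ u v w, ⁅bs j, ⁅bs j, ⁅bs j, vec bs u v w⁆⁆⁆ =
          s • ⁅bs j, vec bs u v w⁆) → ∃ y, LieAlgebra.ad (DualNumber K) L (bs j) ^ p = LieAlgebra.ad (DualNumber K) L y := by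
        intro j s hs
        refine ⟨s ^ m • bs j, ?_⟩
        have h3 : LieAlgebra.ad (DualNumber K) L (bs j) ^ 3 = s • LieAlgebra.ad (DualNumber K) L (bs j) :=
          ext_vec bs fun u v w => by
            rw [pow_succ, pow_two, Module.End.mul_apply, Module.End.mul_apply, LinearMap.smul_apply]
            exact hs u v w
        rw [map_smul, hm, pow_odd_eq h3]
      fin_cases k
      · refine hcube 0 0 fun u v w => ?_
        rw [h0, hb, hb, hb, smul_vec, vec_inj]
        refine ⟨?_, ?_, ?_⟩ <;> ext <;> simp <;> ring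
      · refine hcube 1 ((-c) • ε) fun u v w => ?_
        rw [h1, hb, hb, hb, smul_vec, vec_inj]
        refine ⟨?_, ?_, ?_⟩ <;> ext <;> simp <;> ring
      · refine hcube 2 (e • ε) fun u v w => ?_
        rw [h2, hb, hb, hb, smul_vec, vec_inj]
        refine ⟨?_, ?_, ?_⟩ <;> ext <;> simp <;> ring

open Finset in
theorem l3_deformation (t a b c d e f g h i : K) (ht : t ^ p = t)
    (hxy : ⁅bs 0, bs 1⁆ = vec bs (a • ε : DualNumber K) (1 + b • ε) (c • ε))
    (hxz : ⁅bs 0, bs 2⁆ = vec bs (d • ε : DualNumber K) (e • ε) (algebraMap K (DualNumber K) t + f • ε))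
    (hyz : ⁅bs 1, bs 2⁆ = vec bs (g • ε : DualNumber K) (h • ε) (i • ε)) :
    Nonempty (PLie.PMap (DualNumber K) p L) ↔ (b * t = f ∧ (t = 1 → c = 0 ∧ e = 0) ∧ (p = 2 → g = 0)) := by
  obtain ⟨h0, h1, h2⟩ := basis_eq_vec bs
  have hb := lie_vec bs hxy hxz hyz
  -- powers of the first adjoint map
  have hX : ∀ (n : ℕ) u v w, (LieAlgebra.ad (DualNumber K) L (bs 0) ^ (n + 1)) (vec bs u v w) =
      vec bs ((a • ε) * v + ((d * t ^ n) • ε) * w)
        ((1 + ((n + 1 : ℕ) * b) • ε) * v + ((e * ∑ j ∈ range (n + 1), t ^ j) • ε) * w)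
        (((c * ∑ j ∈ range (n + 1), t ^ j) • ε) * v +
          (algebraMap K (DualNumber K) (t ^ (n + 1)) + ((n + 1 : ℕ) * t ^ n * f) • ε) * w) := by
    intro n u v w
    induction n with
    | zero =>
      rw [pow_one, LieAlgebra.ad_apply, h0, hb, vec_inj]
      refine ⟨?_, ?_, ?_⟩ <;> ext <;> simp [TrivSqZeroExt.algebraMap_eq_inl] <;> ring
    | succ n ih =>
      have e1 : ∑ j ∈ range (n + 1 + 1), t ^ j = t * ∑ j ∈ range (n + 1), t ^ j + 1 := geom_sum_succ
      have e2 : ∑ j ∈ range (n + 1 + 1), t ^ j = ∑ j ∈ range (n + 1), t ^ j + t ^ (n + 1) := Finset.sum_range_succ _ _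
      rw [pow_succ', Module.End.mul_apply, ih, LieAlgebra.ad_apply, h0, hb, vec_inj]
      refine ⟨?_, ?_, ?_⟩
      · ext <;> simp [TrivSqZeroExt.algebraMap_eq_inl] <;> ring
      · rw [e2]; ext <;> simp [TrivSqZeroExt.algebraMap_eq_inl] <;> ring
      · rw [e1]; ext <;> simp [TrivSqZeroExt.algebraMap_eq_inl] <;> ring
  have hS : ∑ j ∈ range p, t ^ j = (t - 1) ^ (p - 1) := by
    rw [sub_pow_pred (CharP.cast_eq_zero K p) (Commute.one_right t)]
    simp
  have hS1 : t ≠ 1 → (t - 1) ^ (p - 1) = 1 := fun hne => mul_right_cancel₀ (sub_ne_zero.mpr hne) (by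
    rw [← pow_succ, Nat.sub_add_cancel hp.out.pos, sub_pow_prime (CharP.cast_eq_zero K p) (Commute.one_right t),
      one_pow, ht, one_mul])
  have hXp : ∀ u v w, (LieAlgebra.ad (DualNumber K) L (bs 0) ^ p) (vec bs u v w) =
      vec bs ((a • ε) * v + ((d * t ^ (p - 1)) • ε) * w) (v + ((e * (t - 1) ^ (p - 1)) • ε) * w)
        (((c * (t - 1) ^ (p - 1)) • ε) * v + algebraMap K (DualNumber K) t * w) := by
    intro u v w
    have := hX (p - 1) u v w
    rw [Nat.sub_add_cancel hp.out.pos] at this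
    rw [this, hS, ht, CharP.cast_eq_zero K p]
    simp
  -- the Jacobi identity
  have hJ := lie_jacobi (bs 0) (bs 1) (bs 2)
  rw [show ⁅bs 2, bs 0⁆ = -⁅bs 0, bs 2⁆ from (lie_skew _ _).symm, hxy, hxz, hyz, h0, h1, h2, neg_vec, hb, hb, hb,
    ← vec_zero bs] at hJ
  simp only [vec] at hJ
  have e0 := congrArg bs.repr hJ
  simp only [map_add, map_smul, map_zero, Module.Basis.repr_self, zero_smul, add_zero] at e0
  have hJ0 := Finsupp.ext_iff.mp e0 0
  have hJ1 := Finsupp.ext_iff.mp e0 1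
  have hJ2 := Finsupp.ext_iff.mp e0 2
  simp [TrivSqZeroExt.ext_iff, TrivSqZeroExt.algebraMap_eq_inl] at hJ0 hJ1 hJ2
  have hd : d = t * h := by grind
  have hdt : d * t ^ (p - 1) = d := by
    rw [hd, mul_right_comm, ← pow_succ', Nat.sub_add_cancel hp.out.pos, ht]
  rw [nonempty_pmap_iff bs]
  constructor
  · intro hall
    obtain ⟨w, hw⟩ := hall 0
    obtain ⟨α, β, γ, rfl⟩ := exists_vec bs w
    have ex := LinearMap.congr_fun hw (vec bs 1 0 0)
    have ey := LinearMap.congr_fun hw (vec bs 0 1 0)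
    have ez := LinearMap.congr_fun hw (vec bs 0 0 1)
    rw [hXp, LieAlgebra.ad_apply, hb, vec_inj] at ex ey ez
    simp [TrivSqZeroExt.ext_iff, TrivSqZeroExt.algebraMap_eq_inl] at ex ey ez
    refine ⟨by grind, fun h1' => ?_, ?_⟩
    · subst h1'
      have hz : ((1 : K) - 1) ^ (p - 1) = 0 := by
        rw [sub_self, zero_pow]
        have := hp.out.two_le
        omega
      constructor <;> grind
    · rintro rfl
      obtain ⟨w', hw'⟩ := hall 1
      obtain ⟨α', β', γ', rfl⟩ := exists_vec bs w'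
      have fx := LinearMap.congr_fun hw' (vec bs 1 0 0)
      have fz := LinearMap.congr_fun hw' (vec bs 0 0 1)
      rw [pow_two, Module.End.mul_apply, LieAlgebra.ad_apply, LieAlgebra.ad_apply, LieAlgebra.ad_apply, h1, hb, hb, hb,
        vec_inj] at fx fz
      simp [TrivSqZeroExt.ext_iff, TrivSqZeroExt.algebraMap_eq_inl] at fx fz
      grind
  · rintro ⟨hbt, ht1, hp2⟩ k
    have hce : c * (t - 1) ^ (p - 1) = c ∧ e * (t - 1) ^ (p - 1) = e := by
      by_cases h1' : t = 1
      · obtain ⟨rfl, rfl⟩ := ht1 h1'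
        simp
      · simp [hS1 h1']
    have hnil : ∀ j : Fin 3, (∀ u v w, ⁅bs j, ⁅bs j, ⁅bs j, vec bs u v w⁆⁆⁆ = 0) → p ≠ 2 →
        ∃ y, LieAlgebra.ad (DualNumber K) L (bs j) ^ p = LieAlgebra.ad (DualNumber K) L y := by
      intro j hj hne
      refine ⟨0, ext_vec bs fun u v w => ?_⟩
      have := hp.out.two_le
      rw [show p = p - 3 + 3 by omega, pow_add, Module.End.mul_apply, map_zero, LinearMap.zero_apply, pow_succ, pow_two,
        Module.End.mul_apply, Module.End.mul_apply]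
      exact (congrArg _ (hj u v w)).trans (map_zero _)
    fin_cases k
    · refine ⟨vec bs (1 - b • ε) 0 0, ext_vec bs fun u v w => ?_⟩
      show (LieAlgebra.ad (DualNumber K) L (bs 0) ^ p) _ = _
      rw [hXp, hdt, hce.1, hce.2, LieAlgebra.ad_apply, hb, vec_inj]
      refine ⟨?_, ?_, ?_⟩ <;> ext <;> simp [TrivSqZeroExt.algebraMap_eq_inl] <;> grind
    · rcases eq_or_ne p 2 with rfl | hne
      · refine ⟨((-a) • ε : DualNumber K) • bs 1, ext_vec bs fun u v w => ?_⟩
        show (LieAlgebra.ad (DualNumber K) L (bs 1) ^ 2) _ = _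
        rw [pow_two, Module.End.mul_apply, LieAlgebra.ad_apply, LieAlgebra.ad_apply, LieAlgebra.ad_apply, h1, smul_vec,
          hb, hb, hb, vec_inj]
        obtain rfl := hp2 rfl
        refine ⟨?_, ?_, ?_⟩ <;> ext <;> simp [TrivSqZeroExt.algebraMap_eq_inl] <;> grind
      · refine hnil 1 (fun u v w => ?_) hne
        rw [h1, hb, hb, hb, ← vec_zero bs, vec_inj]
        refine ⟨?_, ?_, ?_⟩ <;> ext <;> simp [TrivSqZeroExt.algebraMap_eq_inl] <;> ring
    · rcases eq_or_ne p 2 with rfl | hne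
      · refine ⟨((-d) • ε : DualNumber K) • bs 2, ext_vec bs fun u v w => ?_⟩
        show (LieAlgebra.ad (DualNumber K) L (bs 2) ^ 2) _ = _
        rw [pow_two, Module.End.mul_apply, LieAlgebra.ad_apply, LieAlgebra.ad_apply, LieAlgebra.ad_apply, h2, smul_vec,
          hb, hb, hb, vec_inj]
        obtain rfl := hp2 rfl
        refine ⟨?_, ?_, ?_⟩ <;> ext <;> simp [TrivSqZeroExt.algebraMap_eq_inl] <;> grind
      · refine hnil 2 (fun u v w => ?_) hne
        rw [h2, hb, hb, hb, ← vec_zero bs, vec_inj]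
        refine ⟨?_, ?_, ?_⟩ <;> ext <;> simp [TrivSqZeroExt.algebraMap_eq_inl] <;> ring

end Groth.Agent.H20PLie
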