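import Groth.Agent.H20PLie.Basis
import Mathlib.Algebra.BigOperators.Fin
import Mathlib.Tactic.LinearCombination
import Mathlib.Tactic.Module

/-!
Lie algebras with a basis of three vectors, in coordinates.
-/

set_option autoImplicit false

universe u v w

namespace Groth.Agent.H20PLie

variable {R : Type u} [CommRing R] {L : Type v} [LieRing L] [LieAlgebra R L]

theorem nonempty_pmap_iff {p : ℕ} [Fact p.Prime] [CharP R p] {ι : Type w} (b : Module.Basis ι R L) :
    Nonempty (PLie.PMap R p L) ↔ ∀ i, ∃ y : L, LieAlgebra.ad R L (b i) ^ p = LieAlgebra.ad R L y := by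
  refine ⟨fun ⟨φ⟩ i => ⟨φ (b i), (φ.ad_map _).symm⟩, fun h => ?_⟩
  choose y hy using h
  obtain ⟨φ, -⟩ := exists_pmap b y hy
  exact ⟨φ⟩

variable (bs : Module.Basis (Fin 3) R L)

/-- a vector in coordinates -/
noncomputable def vec (a b c : R) : L := a • bs 0 + b • bs 1 + c • bs 2

theorem vec_inj {a b c a' b' c' : R} : vec bs a b c = vec bs a' b' c' ↔ a = a' ∧ b = b' ∧ c = c' := by
  refine ⟨fun h => ?_, fun ⟨h1, h2, h3⟩ => by rw [h1, h2, h3]⟩
  have e := congrArg bs.repr h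
  simp only [vec, map_add, map_smul, Module.Basis.repr_self] at e
  exact ⟨by simpa using Finsupp.ext_iff.mp e 0, by simpa using Finsupp.ext_iff.mp e 1,
    by simpa using Finsupp.ext_iff.mp e 2⟩

theorem exists_vec (x : L) : ∃ a b c, x = vec bs a b c :=
  ⟨bs.repr x 0, bs.repr x 1, bs.repr x 2, by
    conv_lhs => rw [← bs.sum_repr x, Fin.sum_univ_three]
    rfl⟩

theorem smul_vec (r a b c : R) : r • vec bs a b c = vec bs (r * a) (r * b) (r * c) := by
  simp [vec, smul_add, smul_smul]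

theorem neg_vec (a b c : R) : -vec bs a b c = vec bs (-a) (-b) (-c) := by
  simp only [vec]; module

theorem vec_zero : vec bs (0 : R) 0 0 = (0 : L) := by simp [vec]

theorem basis_eq_vec : bs 0 = vec bs (1 : R) 0 0 ∧ bs 1 = vec bs (0 : R) 1 0 ∧ bs 2 = vec bs (0 : R) 0 1 := by
  simp [vec]

theorem lie_vec {P0 P1 P2 Q0 Q1 Q2 S0 S1 S2 : R} (hxy : ⁅bs 0, bs 1⁆ = vec bs P0 P1 P2)
    (hxz : ⁅bs 0, bs 2⁆ = vec bs Q0 Q1 Q2) (hyz : ⁅bs 1, bs 2⁆ = vec bs S0 S1 S2) (a b c a' b' c' : R) :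
    ⁅vec bs a b c, vec bs a' b' c'⁆ =
      vec bs ((a * b' - b * a') * P0 + (a * c' - c * a') * Q0 + (b * c' - c * b') * S0)
        ((a * b' - b * a') * P1 + (a * c' - c * a') * Q1 + (b * c' - c * b') * S1)
        ((a * b' - b * a') * P2 + (a * c' - c * a') * Q2 + (b * c' - c * b') * S2) := by
  have hyx : ⁅bs 1, bs 0⁆ = -vec bs P0 P1 P2 := by rw [← lie_skew, hxy]
  have hzx : ⁅bs 2, bs 0⁆ = -vec bs Q0 Q1 Q2 := by rw [← lie_skew, hxz]
  have hzy : ⁅bs 2, bs 1⁆ = -vec bs S0 S1 S2 := by rw [← lie_skew, hyz]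
  rw [vec, vec]
  simp only [add_lie, lie_add, smul_lie, lie_smul, lie_self, hxy, hxz, hyz, hyx, hzx, hzy]
  simp only [vec]
  module

theorem ext_vec {f g : Module.End R L} (h : ∀ a b c, f (vec bs a b c) = g (vec bs a b c)) : f = g :=
  LinearMap.ext fun x => by
    obtain ⟨a, b, c, rfl⟩ := exists_vec bs x
    exact h a b c

end Groth.Agent.H20PLie
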