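import Groth.Agent.H20PLie.Restricted
import Mathlib.Algebra.RingQuot
import Mathlib.RingTheory.HopfAlgebra.Basic
import Mathlib.RingTheory.TensorProduct.Maps
import Mathlib.Algebra.Algebra.Opposite

/-!
The restricted enveloping algebra with its cocommutative Hopf algebra structure.
-/

set_option autoImplicit false

universe u v w

open TensorProduct MulOpposite

namespace Groth.Agent.H20PLie

attribute [local instance 100] LieRing.ofAssociativeRing

noncomputable section

variable {k : Type u} [CommRing k] {p : ℕ} [hp : Fact p.Prime] [CharP k p]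
  {L : Type v} [LieRing L] [LieAlgebra k L] (φ : PLie.PMap k p L)

/-- The defining relations `ι x ^ p = ι (φ x)`. -/
inductive EnvRel : UniversalEnvelopingAlgebra k L → UniversalEnvelopingAlgebra k L → Prop
  | pow (x : L) : EnvRel (UniversalEnvelopingAlgebra.ι k x ^ p) (UniversalEnvelopingAlgebra.ι k (φ x))

/-- The restricted enveloping algebra. -/
abbrev Env := RingQuot (EnvRel φ)

/-- The canonical map. -/
def envι : L →ₗ[k] Env φ :=
  (RingQuot.mkAlgHom k (EnvRel φ)).toLinearMap ∘ₗ (UniversalEnvelopingAlgebra.ι k : L →ₗ⁅k⁆ _).toLinearMap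

theorem envι_apply (x : L) :
    envι φ x = RingQuot.mkAlgHom k (EnvRel φ) (UniversalEnvelopingAlgebra.ι k x) := rfl

theorem envι_bracket (x y : L) : envι φ ⁅x, y⁆ = envι φ x * envι φ y - envι φ y * envι φ x := by
  rw [envι_apply, LieHom.map_lie, LieRing.of_associative_ring_bracket, map_sub, map_mul, map_mul]
  rfl

theorem envι_pow (x : L) : envι φ x ^ p = envι φ (φ x) := by
  rw [envι_apply, envι_apply, ← map_pow]
  exact RingQuot.mkAlgHom_rel k (EnvRel.pow x)

theorem env_hom_ext {B : Type w} [Ring B] [Algebra k B] {f g : Env φ →ₐ[k] B}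
    (h : ∀ x, f (envι φ x) = g (envι φ x)) : f = g :=
  RingQuot.ringQuot_ext' _ _ _ (UniversalEnvelopingAlgebra.hom_ext k (LieHom.ext h))

/-- The universal property. -/
def envLift {B : Type w} [Ring B] [Algebra k B] (e : L →ₗ[k] B) (hb : ∀ x y, e ⁅x, y⁆ = e x * e y - e y * e x)
    (hpow : ∀ x, e x ^ p = e (φ x)) : Env φ →ₐ[k] B :=
  RingQuot.liftAlgHom k
    ⟨UniversalEnvelopingAlgebra.lift k
      { e with map_lie' := fun {x y} => by rw [LieRing.of_associative_ring_bracket]; exact hb x y },
    fun u w h => by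
      cases h with
      | pow x => rw [map_pow, UniversalEnvelopingAlgebra.lift_ι_apply, UniversalEnvelopingAlgebra.lift_ι_apply]; exact hpow x⟩

theorem envLift_ι {B : Type w} [Ring B] [Algebra k B] (e : L →ₗ[k] B)
    (hb : ∀ x y, e ⁅x, y⁆ = e x * e y - e y * e x) (hpow : ∀ x, e x ^ p = e (φ x)) (x : L) :
    envLift φ e hb hpow (envι φ x) = e x := by
  rw [envLift, envι_apply, RingQuot.liftAlgHom_mkAlgHom_apply, UniversalEnvelopingAlgebra.lift_ι_apply]
  rfl

theorem env_subalgebra_eq_top (S : Subalgebra k (Env φ)) (h : ∀ x, envι φ x ∈ S) : S = ⊤ := by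
  have hid : S.val.comp (envLift φ ((envι φ).codRestrict S.toSubmodule h)
      (fun x y => Subtype.ext (envι_bracket φ x y)) (fun x => Subtype.ext (envι_pow φ x))) = AlgHom.id k _ :=
    env_hom_ext φ fun x => by
      rw [AlgHom.comp_apply, envLift_ι]
      rfl
  exact eq_top_iff.2 fun u _ => by
    rw [← show S.val (envLift φ _ _ _ u) = u from DFunLike.congr_fun hid u]
    exact Subtype.coe_prop _

theorem env_induction {P : Env φ → Prop} (hι : ∀ x, P (envι φ x)) (halg : ∀ r, P (algebraMap k _ r))
    (hadd : ∀ a b, P a → P b → P (a + b)) (hmul : ∀ a b, P a → P b → P (a * b)) (u : Env φ) : P u := by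
  let S : Subalgebra k (Env φ) :=
    { carrier := {a | P a}
      mul_mem' := fun {a b} ha hb => hmul a b ha hb
      add_mem' := fun {a b} ha hb => hadd a b ha hb
      algebraMap_mem' := halg }
  exact (show u ∈ S by rw [env_subalgebra_eq_top φ S hι]; trivial)

theorem cast_p_eq_zero (B : Type w) [Ring B] [Algebra k B] : (p : B) = 0 := cast_eq_zero_of_algebra k

/-- The primitive coproduct. -/
def envδ : L →ₗ[k] Env φ ⊗[k] Env φ :=
  (TensorProduct.mk k (Env φ) (Env φ)).flip 1 ∘ₗ envι φ + TensorProduct.mk k (Env φ) (Env φ) 1 ∘ₗ envι φ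

theorem envδ_apply (x : L) : envδ φ x = envι φ x ⊗ₜ[k] (1 : Env φ) + (1 : Env φ) ⊗ₜ[k] envι φ x := rfl

theorem envδ_bracket (x y : L) : envδ φ ⁅x, y⁆ = envδ φ x * envδ φ y - envδ φ y * envδ φ x := by
  simp only [envδ_apply, mul_add, add_mul, Algebra.TensorProduct.tmul_mul_tmul, one_mul, mul_one, envι_bracket,
    TensorProduct.sub_tmul, TensorProduct.tmul_sub]
  abel

theorem envδ_pow (x : L) : envδ φ x ^ p = envδ φ (φ x) := by
  have hcomm : Commute (envι φ x ⊗ₜ[k] (1 : Env φ)) ((1 : Env φ) ⊗ₜ[k] envι φ x) := by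
    show _ * _ = _ * _
    rw [Algebra.TensorProduct.tmul_mul_tmul, Algebra.TensorProduct.tmul_mul_tmul]
    simp
  rw [envδ_apply, hcomm.add_pow, Finset.sum_range_succ, Finset.sum_eq_single 0, Nat.choose_zero_right,
    Nat.choose_self]
  · simp [Algebra.TensorProduct.tmul_pow, envι_pow, envδ_apply, add_comm]
  · intro j hj hj0
    obtain ⟨c, hc⟩ := hp.out.dvd_choose_self hj0 (Finset.mem_range.1 hj)
    rw [hc, Nat.cast_mul, cast_p_eq_zero (k := k), zero_mul, mul_zero]
  · exact fun h => absurd (Finset.mem_range.2 hp.out.pos) h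

/-- The coproduct. -/
def envΔ : Env φ →ₐ[k] Env φ ⊗[k] Env φ := envLift φ (envδ φ) (envδ_bracket φ) (envδ_pow φ)

theorem envΔ_ι (x : L) : envΔ φ (envι φ x) = envι φ x ⊗ₜ[k] 1 + 1 ⊗ₜ[k] envι φ x := envLift_ι φ _ _ _ x

/-- The counit. -/
def envε : Env φ →ₐ[k] k :=
  envLift φ 0 (fun _ _ => by simp) (fun _ => zero_pow hp.out.ne_zero)

theorem envε_ι (x : L) : envε φ (envι φ x) = 0 := envLift_ι φ _ _ _ x

instance : Bialgebra k (Env φ) :=
  Bialgebra.ofAlgHom (envΔ φ) (envε φ)
    (env_hom_ext φ fun x => by
      simp [envΔ_ι, TensorProduct.add_tmul, TensorProduct.tmul_add, Algebra.TensorProduct.one_def, add_assoc])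
    (env_hom_ext φ fun x => by simp [envΔ_ι, envε_ι, Algebra.TensorProduct.one_def])
    (env_hom_ext φ fun x => by simp [envΔ_ι, envε_ι, Algebra.TensorProduct.one_def])

theorem env_comul (u : Env φ) : Coalgebra.comul (R := k) u = envΔ φ u := rfl

theorem env_counit (u : Env φ) : Coalgebra.counit (R := k) u = envε φ u := rfl

theorem neg_pow_p {B : Type w} [Ring B] [Algebra k B] (a : B) : (-a) ^ p = -(a ^ p) := by
  rcases hp.out.eq_two_or_odd' with h | h
  · subst h
    have h2 : a ^ 2 + a ^ 2 = 0 := by
      rw [← two_mul, show (2 : B) = ((2 : ℕ) : B) from Nat.cast_ofNat.symm, cast_p_eq_zero (k := k), zero_mul]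
    rw [neg_sq]
    exact eq_neg_of_add_eq_zero_left h2
  · exact h.neg_pow a

/-- The antipode as a map to the opposite algebra. -/
def envSop : Env φ →ₐ[k] (Env φ)ᵐᵒᵖ :=
  envLift φ (-((MulOpposite.opLinearEquiv k).toLinearMap ∘ₗ envι φ))
    (fun x y => by
      simp only [LinearMap.neg_apply, LinearMap.comp_apply, LinearEquiv.coe_coe, MulOpposite.coe_opLinearEquiv,
        neg_mul_neg, envι_bracket, op_sub, ← op_mul, neg_sub])
    (fun x => by
      simp only [LinearMap.neg_apply, LinearMap.comp_apply, LinearEquiv.coe_coe, MulOpposite.coe_opLinearEquiv,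
        ← op_neg, ← op_pow, neg_pow_p (k := k) (p := p), envι_pow])

/-- The antipode. -/
def envS : Env φ →ₗ[k] Env φ := (MulOpposite.opLinearEquiv k).symm.toLinearMap ∘ₗ (envSop φ).toLinearMap

theorem envS_mul (a b : Env φ) : envS φ (a * b) = envS φ b * envS φ a := by
  simp [envS]

theorem envS_algebraMap (r : k) : envS φ (algebraMap k _ r) = algebraMap k _ r := by
  simp [envS]

theorem envS_ι (x : L) : envS φ (envι φ x) = -envι φ x := by
  simp [envS, envSop, envLift_ι]

theorem antipode_left_mul {a : Env φ} (z : Env φ ⊗[k] Env φ)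
    (hz : LinearMap.mul' k _ ((envS φ).rTensor (Env φ) z) = a) (x y : Env φ) :
    LinearMap.mul' k _ ((envS φ).rTensor (Env φ) (z * (x ⊗ₜ[k] y))) = envS φ x * a * y := by
  subst hz
  induction z using TensorProduct.induction_on with
  | zero => simp
  | tmul c d => simp [Algebra.TensorProduct.tmul_mul_tmul, envS_mul, mul_assoc]
  | add u w hu hw => simp only [add_mul, map_add, mul_add, hu, hw]

theorem antipode_right_mul {b : Env φ} (w : Env φ ⊗[k] Env φ)
    (hw : LinearMap.mul' k _ ((envS φ).lTensor (Env φ) w) = b) (x y : Env φ) :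
    LinearMap.mul' k _ ((envS φ).lTensor (Env φ) ((x ⊗ₜ[k] y) * w)) = x * b * envS φ y := by
  subst hw
  induction w using TensorProduct.induction_on with
  | zero => simp
  | tmul c d => simp [Algebra.TensorProduct.tmul_mul_tmul, envS_mul, mul_assoc]
  | add u v hu hv => simp only [mul_add, map_add, add_mul, hu, hv]

instance : HopfAlgebra k (Env φ) where
  antipode := envS φ
  mul_antipode_rTensor_comul := by
    refine LinearMap.ext fun u => ?_
    show LinearMap.mul' k _ ((envS φ).rTensor _ (envΔ φ u)) = algebraMap k _ (envε φ u)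
    induction u using env_induction φ with
    | hι x => simp [envΔ_ι, envε_ι, envS_ι, show envS φ 1 = 1 by simpa using envS_algebraMap φ 1]
    | halg r => simp [Algebra.TensorProduct.algebraMap_apply, envS_algebraMap]
    | hadd a b ha hb => simp only [map_add, ha, hb]
    | hmul a b ha hb =>
      have key : ∀ z, LinearMap.mul' k _ ((envS φ).rTensor _ (envΔ φ a * z)) =
          envε φ a • LinearMap.mul' k _ ((envS φ).rTensor _ z) := by
        intro z
        induction z using TensorProduct.induction_on with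
        | zero => simp
        | tmul x y =>
          rw [antipode_left_mul φ _ ha, LinearMap.rTensor_tmul, LinearMap.mul'_apply, Algebra.smul_def,
            ← Algebra.commutes (envε φ a) (envS φ x), mul_assoc]
        | add v w hv hw => simp only [mul_add, map_add, smul_add, hv, hw]
      rw [map_mul, key, hb, map_mul, map_mul, Algebra.smul_def]
  mul_antipode_lTensor_comul := by
    refine LinearMap.ext fun u => ?_
    show LinearMap.mul' k _ ((envS φ).lTensor _ (envΔ φ u)) = algebraMap k _ (envε φ u)
    induction u using env_induction φ with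
    | hι x => simp [envΔ_ι, envε_ι, envS_ι, show envS φ 1 = 1 by simpa using envS_algebraMap φ 1]
    | halg r => simp [Algebra.TensorProduct.algebraMap_apply, show envS φ 1 = 1 by simpa using envS_algebraMap φ 1]
    | hadd a b ha hb => simp only [map_add, ha, hb]
    | hmul a b ha hb =>
      have key : ∀ z, LinearMap.mul' k _ ((envS φ).lTensor _ (z * envΔ φ b)) =
          envε φ b • LinearMap.mul' k _ ((envS φ).lTensor _ z) := by
        intro z
        induction z using TensorProduct.induction_on with
        | zero => simp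
        | tmul x y =>
          rw [antipode_right_mul φ _ hb, LinearMap.lTensor_tmul, LinearMap.mul'_apply, Algebra.smul_def,
            ← Algebra.commutes (envε φ b) x, mul_assoc]
        | add v w hv hw => simp only [add_mul, map_add, smul_add, hv, hw]
      rw [map_mul, key, ha, map_mul, map_mul, Algebra.smul_def, Algebra.commutes]

instance : Coalgebra.IsCocomm k (Env φ) where
  comm_comp_comul := by
    refine LinearMap.ext fun u => ?_
    show TensorProduct.comm k _ _ (envΔ φ u) = envΔ φ u
    exact DFunLike.congr_fun (env_hom_ext φ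
      (f := (Algebra.TensorProduct.comm k (Env φ) (Env φ)).toAlgHom.comp (envΔ φ)) (g := envΔ φ)
      fun x => by simp [envΔ_ι, add_comm]) u

end

end Groth.Agent.H20PLie
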