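import Groth.Agent.H20PLie.Env
import Mathlib.LinearAlgebra.Finsupp.VectorSpace

/-!
The basis of the restricted enveloping algebra and its primitive elements.
-/

set_option autoImplicit false

universe u v w

open TensorProduct Groth.Agent.H20PBW

namespace Groth.Agent.H20PLie

noncomputable section

variable {k : Type u} [CommRing k] {p : ℕ} [hp : Fact p.Prime] [CharP k p]
  {L : Type v} [LieRing L] [LieAlgebra k L] {ι : Type w} [LinearOrder ι] [Fintype ι]
  (b : Module.Basis ι k L) (φ : PLie.PMap k p L)

/-- The representation on the restricted monomials. -/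
def envRep : Env φ →ₐ[k] Module.End k (Res p ι →₀ k) :=
  envLift φ (B := Module.End k (Res p ι →₀ k)) (rep' b φ) (rep'_bracket b φ) (fun x => (rep'_pmap b φ x).symm)

theorem envRep_ι (x : L) : envRep b φ (envι φ x) = rep' b φ x := envLift_ι φ _ _ _ x

theorem envRep_mk (w : UniversalEnvelopingAlgebra k L) :
    ∀ v : P k ι, envRep b φ (RingQuot.mkAlgHom k (EnvRel φ) w) (prj b φ v) = prj b φ (rep b w v) := by
  obtain ⟨t, rfl⟩ : ∃ t, UniversalEnvelopingAlgebra.mkAlgHom k L t = w := Quot.exists_rep w
  induction t using TensorAlgebra.induction with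
  | algebraMap r => intro v; simp [Algebra.algebraMap_eq_smul_one]
  | ι x =>
    intro v
    show envRep b φ (envι φ x) (prj b φ v) = prj b φ (rep b (UniversalEnvelopingAlgebra.ι k x) v)
    rw [envRep_ι, rep_ι, ← prj_A]
    rfl
  | mul s t hs ht => intro v; simp only [map_mul, Module.End.mul_apply, hs, ht]
  | add s t hs ht => intro v; simp only [map_add, LinearMap.add_apply, hs, ht]

/-- Formal combinations of monomials, evaluated. -/
def envEv : P k ι →ₗ[k] Env φ := (RingQuot.mkAlgHom k (EnvRel φ)).toLinearMap ∘ₗ ev b

theorem envEv_surjective : Function.Surjective (envEv b φ) := fun u => by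
  obtain ⟨w, rfl⟩ := RingQuot.mkAlgHom_surjective k (EnvRel φ) u
  refine ⟨rep b w (z nilSL), ?_⟩
  simp [envEv, ev_rep, ev_z, mon, nilSL]

theorem ev_A (x : L) (v : P k ι) : ev b (A b x v) = UniversalEnvelopingAlgebra.ι k x * ev b v := by
  rw [← rep_ι, ev_rep]

theorem envEv_zeta (i : ι) (v : P k ι) : envEv b φ (zeta b φ i v) = 0 := by
  have hA : ∀ (x : L) (v : P k ι), envEv b φ (Ae b x v) = envι φ x * envEv b φ v := fun x v => by
    simp [envEv, Ae_apply, ev_A, envι_apply]
  have hpow : ∀ n (v : P k ι), envEv b φ ((Ae b (b i) ^ n) v) = envι φ (b i) ^ n * envEv b φ v := by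
    intro n
    induction n with
    | zero => intro v; simp
    | succ n ih => intro v; rw [pow_succ', Module.End.mul_apply, hA, ih, pow_succ', mul_assoc]
  rw [zeta, LinearMap.sub_apply, map_sub, hpow, hA, envι_pow, sub_self]

theorem envEv_tw_of_not {l : SL ι} (h : ¬∀ i, (ms l).count i < p) : envEv b φ (tw b φ (ms l)) = 0 := by
  push Not at h
  obtain ⟨i, hi⟩ := h
  obtain ⟨s, hs⟩ := Multiset.le_iff_exists_add.mp (Multiset.le_count_iff_replicate_le.mp hi)
  rw [hs, tw_replicate_add, envEv_zeta]

theorem tw_of_res {s : Multiset ι} (h : ∀ i, s.count i < p) : tw b φ s = wv s := by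
  have hq : quo p s = 0 := Multiset.ext.mpr fun j => by
    rw [quo, count_sum_replicate, Multiset.count_zero]
    exact Nat.div_eq_of_lt (h j)
  have hr := quo_add_rmd (p := p) s
  rw [hq, smul_zero, zero_add] at hr
  rw [tw, hq, hr, fold, Multiset.foldr_zero]

theorem envEv_incl_prj : envEv b φ ∘ₗ incl b φ ∘ₗ prj b φ = envEv b φ := by
  refine Tl_ext b φ fun l => ?_
  rw [LinearMap.comp_apply, LinearMap.comp_apply, prj_tw]
  by_cases h : ∀ i, (ms l).count i < p
  · rw [dif_pos h, incl, Finsupp.linearCombination_single, one_smul]
  · rw [dif_neg h, map_zero, map_zero, envEv_tw_of_not b φ h]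

theorem envRep_envEv (v : P k ι) : envRep b φ (envEv b φ v) (prj b φ (z nilSL)) = prj b φ v := by
  induction v using Finsupp.induction_linear with
  | zero => simp
  | add f g hf hg => simp only [map_add, LinearMap.add_apply, hf, hg]
  | single l c =>
    rw [← Finsupp.smul_single_one]
    simp only [map_smul, LinearMap.smul_apply]
    refine congrArg (c • ·) ?_
    show envRep b φ (RingQuot.mkAlgHom k (EnvRel φ) (ev b (z l))) _ = prj b φ (z l)
    rw [envRep_mk, ev_z, rep_mon]

/-- The coordinates of an element. -/
def envCoord : Env φ →ₗ[k] (Res p ι →₀ k) :=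
  LinearMap.applyₗ (prj b φ (z nilSL)) ∘ₗ (envRep b φ).toLinearMap

theorem envCoord_envEv (v : P k ι) : envCoord b φ (envEv b φ v) = prj b φ v := envRep_envEv b φ v

theorem envCoord_bijective : Function.Bijective (envCoord b φ) := by
  constructor
  · rw [injective_iff_map_eq_zero]
    intro u hu
    obtain ⟨v, rfl⟩ := envEv_surjective b φ u
    rw [envCoord_envEv] at hu
    rw [← envEv_incl_prj b φ, LinearMap.comp_apply, LinearMap.comp_apply, hu, map_zero, map_zero]
  · intro f
    obtain ⟨v, rfl⟩ := prj_surjective b φ f
    exact ⟨envEv b φ v, envCoord_envEv b φ v⟩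

/-- The basis of restricted monomials. -/
def envBasis : Module.Basis (Res p ι) k (Env φ) :=
  Module.Basis.ofRepr (LinearEquiv.ofBijective (envCoord b φ) (envCoord_bijective b φ))

theorem envFinite (b : Module.Basis ι k L) : Module.Finite k (Env φ) := Module.Finite.of_basis (envBasis b φ)

/-- An ordered monomial. -/
def envMon (l : List ι) : Env φ := (l.map fun i => envι φ (b i)).prod

theorem envMon_cons (i : ι) (l : List ι) : envMon b φ (i :: l) = envι φ (b i) * envMon b φ l := by
  simp [envMon]

theorem envEv_z (l : SL ι) : envEv b φ (z l) = envMon b φ l.1 := by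
  rw [envEv, LinearMap.comp_apply, AlgHom.toLinearMap_apply, ev_z, mon, map_list_prod, List.map_map]
  rfl

theorem envBasis_apply (l : Res p ι) : envBasis b φ l = envMon b φ l.1.1 := by
  apply (envBasis b φ).repr.injective
  rw [Module.Basis.repr_self, ← envEv_z]
  show _ = envCoord b φ (envEv b φ (z l.1))
  rw [envCoord_envEv]
  have h : (z l.1 : P k ι) = tw b φ (ms l.1) := by rw [tw_of_res b φ l.2, wv, mkSL_ms]
  rw [h, prj_tw, dif_pos l.2]

theorem envBasis_repr_envMon (s : List ι) (hs : s.SortedLE) (hres : ∀ i, s.count i < p) :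
    (envBasis b φ).repr (envMon b φ s) =
      Finsupp.single (⟨⟨s, hs⟩, fun i => by simpa [ms] using hres i⟩ : Res p ι) 1 := by
  rw [← (envBasis b φ).repr_self, envBasis_apply]

/-- All the ways of splitting a list into two sublists. -/
def splits {α : Type w} : List α → List (List α × List α)
  | [] => [([], [])]
  | a :: l => (splits l).map (fun s => (a :: s.1, s.2)) ++ (splits l).map (fun s => (s.1, a :: s.2))

theorem sublist_of_mem_splits {α : Type w} : ∀ {l : List α} {s : List α × List α}, s ∈ splits l →
    s.1.Sublist l ∧ s.2.Sublist l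
  | [], s, h => by
    rw [splits, List.mem_singleton] at h
    subst h
    exact ⟨List.Sublist.refl _, List.Sublist.refl _⟩
  | a :: l, s, h => by
    rw [splits, List.mem_append] at h
    rcases h with h | h <;> obtain ⟨t, ht, rfl⟩ := List.mem_map.1 h <;>
      obtain ⟨h1, h2⟩ := sublist_of_mem_splits ht
    · exact ⟨h1.cons_cons a, h2.cons a⟩
    · exact ⟨h1.cons a, h2.cons_cons a⟩

theorem comul_envMon (l : List ι) :
    envΔ φ (envMon b φ l) = ((splits l).map fun s => envMon b φ s.1 ⊗ₜ[k] envMon b φ s.2).sum := by
  induction l with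
  | nil => simp [envMon, splits, Algebra.TensorProduct.one_def]
  | cons i l ih =>
    rw [envMon_cons, map_mul, envΔ_ι, ih, splits, List.map_append, List.sum_append, List.map_map, List.map_map,
      add_mul, ← List.sum_map_mul_left, ← List.sum_map_mul_left]
    congr 2 <;>
    · refine List.map_congr_left fun s _ => ?_
      simp [Algebra.TensorProduct.tmul_mul_tmul, envMon_cons]

omit hp [CharP k p] [LinearOrder ι] [Fintype ι] in
theorem countP_splits_nil [DecidableEq ι] (l r : List ι) :
    (splits l).countP (fun s => decide (s.1 = [] ∧ s.2 = r)) = if l = r then 1 else 0 := by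
  induction l generalizing r with
  | nil => simp [splits, List.countP_cons, eq_comm]
  | cons a l ih =>
    rw [splits, List.countP_append, List.countP_map, List.countP_map]
    have h0 : (splits l).countP ((fun s => decide (s.1 = [] ∧ s.2 = r)) ∘ fun s => (a :: s.1, s.2)) = 0 :=
      List.countP_eq_zero.2 fun s _ => by simp
    rw [h0, zero_add]
    cases r with
    | nil => rw [if_neg (List.cons_ne_nil _ _)]; exact List.countP_eq_zero.2 fun s _ => by simp
    | cons c r =>
      by_cases hac : a = c
      · subst hac
        rw [List.countP_congr (q := fun s => decide (s.1 = [] ∧ s.2 = r)) (fun s _ => by simp), ih]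
        simp
      · rw [if_neg (by simp [hac])]
        exact List.countP_eq_zero.2 fun s _ => by simp [hac]

omit hp [CharP k p] [Fintype ι] in
theorem countP_splits_head : ∀ (r : List ι) (i : ι), (i :: r).SortedLE →
    (splits (i :: r)).countP (fun s => decide (s.1 = [i] ∧ s.2 = r)) = (i :: r).count i := by
  intro r
  induction r with
  | nil => intro i _; simp [splits]
  | cons c r ih =>
    intro i hs
    rw [splits, List.countP_append, List.countP_map, List.countP_map,
      List.countP_congr (p := (fun s : List ι × List ι => decide (s.1 = [i] ∧ s.2 = c :: r)) ∘ fun s => (i :: s.1, s.2))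
        (q := fun s : List ι × List ι => decide (s.1 = [] ∧ s.2 = c :: r)) (fun s _ => by simp),
      countP_splits_nil, if_pos rfl, List.count_cons_self, add_comm]
    congr 1
    by_cases hic : i = c
    · subst hic
      rw [← ih i hs.pairwise.of_cons.sortedLE]
      exact List.countP_congr fun s _ => by simp
    · have hlt : ∀ a ∈ c :: r, i < a := by
        intro a ha
        have hle := List.rel_of_pairwise_cons hs.pairwise (List.mem_cons_self)
        have hlt : i < c := lt_of_le_of_ne hle hic
        rcases List.mem_cons.1 ha with rfl | ha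
        · exact hlt
        · exact hlt.trans_le (List.rel_of_pairwise_cons hs.pairwise.of_cons ha)
      rw [List.count_eq_zero.2 fun h => (hlt i h).false]
      exact List.countP_eq_zero.2 fun s _ => by simp [Ne.symm hic, hic]

theorem perm_of_mem_splits {α : Type w} : ∀ {l : List α} {s : List α × List α}, s ∈ splits l →
    (s.1 ++ s.2).Perm l
  | [], s, h => by
    rw [splits, List.mem_singleton] at h
    subst h
    rfl
  | a :: l, s, h => by
    rw [splits, List.mem_append] at h
    rcases h with h | h <;> obtain ⟨t, ht, rfl⟩ := List.mem_map.1 h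
    · exact (perm_of_mem_splits ht).cons a
    · exact List.perm_middle.trans ((perm_of_mem_splits ht).cons a)

theorem repr_comul_envBasis (l i r : Res p ι) :
    ((envBasis b φ).tensorProduct (envBasis b φ)).repr (envΔ φ (envBasis b φ l)) (i, r) =
      ((splits l.1.1).countP (fun s => decide (s.1 = i.1.1 ∧ s.2 = r.1.1)) : k) := by
  rw [envBasis_apply, comul_envMon]
  have hres : ∀ j, l.1.1.count j < p := fun j => by simpa [ms] using l.2 j
  have key : ∀ L' : List (List ι × List ι), (∀ s ∈ L', s.1.Sublist l.1.1 ∧ s.2.Sublist l.1.1) →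
      ((envBasis b φ).tensorProduct (envBasis b φ)).repr
        (L'.map fun s => envMon b φ s.1 ⊗ₜ[k] envMon b φ s.2).sum (i, r) =
        (L'.countP (fun s => decide (s.1 = i.1.1 ∧ s.2 = r.1.1)) : k) := by
    intro L'
    induction L' with
    | nil => simp
    | cons s L' ih =>
      intro h
      obtain ⟨h1, h2⟩ := h s (List.mem_cons_self)
      rw [List.map_cons, List.sum_cons, map_add, Finsupp.add_apply, ih (fun t ht => h t (List.mem_cons_of_mem _ ht)),
        List.countP_cons, Module.Basis.tensorProduct_repr_tmul_apply, smul_eq_mul,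
        envBasis_repr_envMon b φ s.1 (l.1.2.pairwise.sublist h1).sortedLE
          (fun j => (h1.count_le j).trans_lt (hres j)),
        envBasis_repr_envMon b φ s.2 (l.1.2.pairwise.sublist h2).sortedLE
          (fun j => (h2.count_le j).trans_lt (hres j))]
      simp only [Finsupp.single_apply, Subtype.ext_iff, decide_eq_true_eq]
      split_ifs <;> first | (exfalso; simp_all; done) | (push_cast; ring)
  exact key _ fun s hs => sublist_of_mem_splits hs

/-- The empty restricted monomial. -/
def nilRes : Res p ι := ⟨nilSL, fun i => by simp [ms, nilSL, hp.out.pos]⟩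

theorem repr_one : (envBasis b φ).repr 1 = Finsupp.single nilRes 1 := by
  rw [← (envBasis b φ).repr_self nilRes, envBasis_apply]
  rfl

include b in
/-- The primitive elements are the elements of the Lie algebra. -/
theorem exists_eq_envι_of_primitive [IsDomain k] {t : Env φ}
    (ht : envΔ φ t = t ⊗ₜ[k] (1 : Env φ) + (1 : Env φ) ⊗ₜ[k] t) : ∃ x : L, t = envι φ x := by
  classical
  haveI : Fintype (Res p ι) := Fintype.ofFinite _
  set B := envBasis b φ with hB
  set c := B.repr t with hc
  have key : ∀ i r : Res p ι, ∑ l, c l * ((splits l.1.1).countP (fun s => decide (s.1 = i.1.1 ∧ s.2 = r.1.1)) : k) =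
      c i * (Finsupp.single nilRes 1 : Res p ι →₀ k) r + (Finsupp.single nilRes 1 : Res p ι →₀ k) i * c r := by
    intro i r
    have h := congrArg (fun x => (B.tensorProduct B).repr x (i, r)) ht
    simp only [map_add, Finsupp.add_apply, Module.Basis.tensorProduct_repr_tmul_apply, smul_eq_mul] at h
    conv_lhs at h => rw [← B.sum_repr t, map_sum, map_sum, Finsupp.finset_sum_apply]
    simp only [map_smul, Finsupp.smul_apply, smul_eq_mul] at h
    simp only [hB, repr_comul_envBasis, repr_one] at h
    simp only [hc, hB]
    rw [h]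
    ring
  have hne : ∀ (l : Res p ι), l.1.1.length ≠ 1 → c l = 0 := by
    intro l hl
    obtain ⟨⟨_ | ⟨i0, r0⟩, hs⟩, hres⟩ := l
    · have h := key nilRes nilRes
      rw [Finset.sum_eq_single nilRes] at h
      · simp [nilRes, nilSL, splits] at h
        exact h
      · intro m _ hm
        have h0 : (splits m.1.1).countP (fun s => decide (s.1 = (nilRes : Res p ι).1.1 ∧ s.2 = (nilRes : Res p ι).1.1)) = 0 := by
          refine List.countP_eq_zero.2 fun s hs' => ?_
          simp only [decide_eq_true_eq]
          rintro ⟨h1, h2⟩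
          refine hm (Subtype.ext (Subtype.ext ?_))
          have hp' := perm_of_mem_splits hs'
          rw [h1, h2] at hp'
          exact (List.Perm.nil_eq hp').symm
        rw [h0, Nat.cast_zero, mul_zero]
      · simp
    · have hres' : ∀ j, (i0 :: r0).count j < p := fun j => by simpa [ms] using hres j
      let i : Res p ι := ⟨⟨[i0], (List.pairwise_singleton _ _).sortedLE⟩, fun j => by
        simp only [ms, Multiset.coe_count, List.count_singleton]
        have := hp.out.two_le
        split_ifs <;> omega⟩
      let r : Res p ι := ⟨⟨r0, hs.pairwise.of_cons.sortedLE⟩, fun j => by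
        simpa [ms] using lt_of_le_of_lt ((List.sublist_cons_self i0 r0).count_le j) (hres' j)⟩
      set l : Res p ι := ⟨⟨i0 :: r0, hs⟩, hres⟩
      have h := key i r
      rw [Finset.sum_eq_single l] at h
      · have hi : i ≠ nilRes := fun e => List.cons_ne_nil i0 [] (congrArg (fun x : Res p ι => x.1.1) e)
        have hr : r ≠ nilRes := fun e => hl (by
          have e' : r0 = [] := congrArg (fun x : Res p ι => x.1.1) e
          show (i0 :: r0).length = 1
          rw [e']
          rfl)
        rw [Finsupp.single_eq_of_ne hr, Finsupp.single_eq_of_ne hi, mul_zero, zero_mul, add_zero,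
          countP_splits_head r0 i0 hs] at h
        refine (mul_eq_zero.1 h).resolve_right fun h0 => ?_
        rw [CharP.cast_eq_zero_iff k p] at h0
        have hpos : 0 < (i0 :: r0).count i0 := List.count_pos_iff.2 List.mem_cons_self
        exact absurd (Nat.le_of_dvd hpos h0) (not_le.2 (hres' i0))
      · intro m _ hm
        have h0 : (splits m.1.1).countP (fun s => decide (s.1 = i.1.1 ∧ s.2 = r.1.1)) = 0 := by
          refine List.countP_eq_zero.2 fun s hs' => ?_
          simp only [decide_eq_true_eq]
          rintro ⟨h1, h2⟩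
          refine hm (Subtype.ext (Subtype.ext ?_))
          have hp' := perm_of_mem_splits hs'
          rw [h1, h2] at hp'
          exact hp'.symm.eq_of_pairwise' m.1.2.pairwise hs.pairwise
        rw [h0, Nat.cast_zero, mul_zero]
      · simp
  suffices t ∈ LinearMap.range (envι φ) from ⟨this.choose, this.choose_spec.symm⟩
  rw [← B.sum_repr t]
  refine Submodule.sum_mem _ fun l _ => ?_
  by_cases hl : l.1.1.length = 1
  · obtain ⟨i, hi⟩ := List.length_eq_one_iff.1 hl
    refine Submodule.smul_mem _ _ ⟨b i, ?_⟩
    rw [hB, envBasis_apply, hi, envMon_cons]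
    simp [envMon]
  · rw [← hc, hne l hl, zero_smul]
    exact zero_mem _

end

end Groth.Agent.H20PLie
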