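import Groth.Agent.H20PLie.EnvBasis
import Groth.Prelude.Def_CartDual
import Mathlib.RingTheory.Derivation.Lie
import Mathlib.LinearAlgebra.Dual.Lemmas

/-!
The dual of the restricted enveloping algebra: a finite group scheme of height one.
-/

set_option autoImplicit false

universe u

open TensorProduct

namespace Groth.Agent.H20PLie

noncomputable section

variable {k : Type u} [Field k] {p : ℕ} [hp : Fact p.Prime] [CharP k p]
  {L : Type u} [LieRing L] [LieAlgebra k L] (φ : PLie.PMap k p L)

theorem env_finite [Module.Finite k L] : Module.Finite k (Env φ) :=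
  envFinite φ (Module.finBasis k L)

/-- The coordinate ring. -/
abbrev EnvD := CartDual.D k (Env φ)

theorem dual_mul_apply (f g : EnvD φ) (u : Env φ) :
    (f * g).ofConv u = LinearMap.mul' k k (TensorProduct.map f.ofConv g.ofConv (envΔ φ u)) := rfl

theorem dual_one_apply (u : Env φ) : (1 : EnvD φ).ofConv u = envε φ u := by
  simp [LinearMap.convOne_def, env_counit]

theorem map_mulRight_envι (f g : EnvD φ) (u : Env φ) (x : L) :
    (f * g).ofConv (u * envι φ x) =
      LinearMap.mul' k k (TensorProduct.map (f.ofConv ∘ₗ LinearMap.mulRight k (envι φ x)) g.ofConv (envΔ φ u)) +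
      LinearMap.mul' k k (TensorProduct.map f.ofConv (g.ofConv ∘ₗ LinearMap.mulRight k (envι φ x)) (envΔ φ u)) := by
  rw [dual_mul_apply, map_mul, envΔ_ι, mul_add, map_add, map_add]
  generalize envΔ φ u = z
  induction z using TensorProduct.induction_on with
  | zero => simp
  | tmul a b => simp [Algebra.TensorProduct.tmul_mul_tmul]
  | add v w hv hw => simp only [add_mul, map_add] at hv hw ⊢; linear_combination hv + hw

/-- The translation attached to an element of the Lie algebra. -/
def envTr (x : L) : EnvD φ →ₗ[k] EnvD φ where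
  toFun f := WithConv.toConv (f.ofConv ∘ₗ LinearMap.mulRight k (envι φ x))
  map_add' f g := by simp [LinearMap.add_comp]
  map_smul' c f := by simp [LinearMap.smul_comp]

theorem envTr_apply (x : L) (f : EnvD φ) (u : Env φ) : (envTr φ x f).ofConv u = f.ofConv (u * envι φ x) := rfl

/-- The invariant derivation attached to an element of the Lie algebra. -/
def envDer (x : L) : Derivation k (EnvD φ) (EnvD φ) where
  toLinearMap := envTr φ x
  map_one_eq_zero' := by
    refine WithConv.ext (LinearMap.ext fun u => ?_)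
    rw [envTr_apply, dual_one_apply, map_mul, envε_ι, mul_zero]
    rfl
  leibniz' f g := by
    refine WithConv.ext (LinearMap.ext fun u => ?_)
    rw [envTr_apply, map_mulRight_envι, WithConv.ofConv_add, LinearMap.add_apply, smul_eq_mul, smul_eq_mul,
      mul_comm g, dual_mul_apply, dual_mul_apply, add_comm]
    rfl

theorem envDer_apply (x : L) (f : EnvD φ) (u : Env φ) : (envDer φ x f).ofConv u = f.ofConv (u * envι φ x) := rfl

/-- The map from the Lie algebra to derivations. -/
def envToDer : L →ₗ[k] Derivation k (EnvD φ) (EnvD φ) where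
  toFun := envDer φ
  map_add' x y := by
    refine Derivation.ext fun f => WithConv.ext (LinearMap.ext fun u => ?_)
    simp [envDer_apply, mul_add]
  map_smul' c x := by
    refine Derivation.ext fun f => WithConv.ext (LinearMap.ext fun u => ?_)
    simp [envDer_apply]

theorem envToDer_bracket (x y : L) : envToDer φ ⁅x, y⁆ = ⁅envToDer φ x, envToDer φ y⁆ := by
  refine Derivation.ext fun f => WithConv.ext (LinearMap.ext fun u => ?_)
  rw [Derivation.commutator_apply, WithConv.ofConv_sub, LinearMap.sub_apply]
  show f.ofConv (u * envι φ ⁅x, y⁆) = f.ofConv (u * envι φ x * envι φ y) - f.ofConv (u * envι φ y * envι φ x)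
  rw [envι_bracket, mul_sub, map_sub, mul_assoc, mul_assoc]

theorem envToDer_pow (x : L) : (envToDer φ (φ x)).toLinearMap = (envToDer φ x).toLinearMap ^ p := by
  have key : ∀ n (f : EnvD φ) (u : Env φ),
      (((envToDer φ x).toLinearMap ^ n) f).ofConv u = f.ofConv (u * envι φ x ^ n) := by
    intro n
    induction n with
    | zero => intro f u; simp
    | succ n ih =>
      intro f u
      rw [pow_succ', Module.End.mul_apply]
      show (((envToDer φ x).toLinearMap ^ n) f).ofConv (u * envι φ x) = _
      rw [ih, pow_succ', mul_assoc]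
  refine LinearMap.ext fun f => WithConv.ext (LinearMap.ext fun u => ?_)
  rw [key, envι_pow]
  rfl

theorem envToDer_injective [Module.Finite k L] : Function.Injective (envToDer φ) := by
  rw [injective_iff_map_eq_zero]
  intro x hx
  refine rep'_injective (Module.finBasis k L) φ ?_
  rw [map_zero, ← envRep_ι]
  have h : envι φ x = 0 := (Module.forall_dual_apply_eq_zero_iff k _).1 fun g => by
    have e : (envToDer φ x (WithConv.toConv g)).ofConv 1 = 0 := by rw [hx]; rfl
    simpa [envToDer, envDer_apply] using e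
  rw [h, map_zero]

theorem pow_p_eq_zero {f : EnvD φ} (hf : f.ofConv 1 = 0) : f ^ p = 0 := by
  set g := f ^ p with hg
  have hD : ∀ (x : L) (w : Env φ), g.ofConv (w * envι φ x) = 0 := by
    intro x w
    rw [← envDer_apply, hg, Derivation.leibniz_pow, ← Nat.cast_smul_eq_nsmul k, CharP.cast_eq_zero k p, zero_smul]
    rfl
  have hg1 : g.ofConv (1 : Env φ) = 0 := by
    rw [hg, ← mul_pow_sub_one hp.out.ne_zero f, dual_mul_apply, map_one, Algebra.TensorProduct.one_def,
      TensorProduct.map_tmul, LinearMap.mul'_apply, hf, zero_mul]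
  refine WithConv.ext (LinearMap.ext fun u => ?_)
  have key : ∀ u w : Env φ, g.ofConv (w * u) = envε φ u * g.ofConv w := by
    intro u
    induction u using env_induction φ with
    | hι x => intro w; rw [hD, envε_ι, zero_mul]
    | halg r => intro w; rw [← Algebra.commutes, ← Algebra.smul_def, map_smul, AlgHom.commutes]; rfl
    | hadd a b ha hb => intro w; rw [mul_add, map_add, map_add, ha, hb, add_mul]
    | hmul a b ha hb => intro w; rw [← mul_assoc, hb, ha, map_mul, ← mul_assoc, mul_comm (envε φ b)]
  have hu := key u 1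
  rw [one_mul, hg1, mul_zero] at hu
  rw [hu]
  rfl

variable [Module.Finite k (Env φ)]

theorem ev₂_lTensor (T : EnvD φ →ₗ[k] EnvD φ) (S : Env φ →ₗ[k] Env φ)
    (hT : ∀ (f : EnvD φ) (u : Env φ), (T f).ofConv u = f.ofConv (S u)) (z : EnvD φ ⊗[k] EnvD φ) (a b : Env φ) :
    CartDual.ev₂ k (Env φ) (T.lTensor _ z) (a ⊗ₜ b) = CartDual.ev₂ k (Env φ) z (a ⊗ₜ S b) := by
  induction z using TensorProduct.induction_on with
  | zero => simp
  | tmul x y => simp [CartDual.coe_apply, hT]
  | add v w hv hw => simp only [map_add, LinearMap.add_apply, hv, hw]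

theorem envToDer_invariant (x : L) :
    CoalgebraStruct.comul (R := k) (A := EnvD φ) ∘ₗ (envToDer φ x).toLinearMap =
      LinearMap.lTensor (EnvD φ) (envToDer φ x).toLinearMap ∘ₗ CoalgebraStruct.comul (R := k) (A := EnvD φ) := by
  refine LinearMap.ext fun f => (CartDual.ev₂ k (Env φ)).injective (TensorProduct.ext' fun a b => ?_)
  rw [LinearMap.comp_apply, LinearMap.comp_apply, CartDual.ev₂_coalgebra_comul_tmul,
    ev₂_lTensor φ _ (LinearMap.mulRight k (envι φ x)) (fun f u => rfl), CartDual.ev₂_coalgebra_comul_tmul]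
  show f.ofConv (a * b * envι φ x) = f.ofConv (a * (b * envι φ x))
  rw [mul_assoc]

theorem exists_of_invariant [Module.Finite k L] {D : Derivation k (EnvD φ) (EnvD φ)}
    (hD : CoalgebraStruct.comul (R := k) (A := EnvD φ) ∘ₗ D.toLinearMap =
      LinearMap.lTensor (EnvD φ) D.toLinearMap ∘ₗ CoalgebraStruct.comul (R := k) (A := EnvD φ)) :
    ∃ x, envToDer φ x = D := by
  let e := Module.evalEquiv k (Env φ)
  let T : Env φ →ₗ[k] Env φ := e.symm.toLinearMap ∘ₗ
    ((CartDual.toDual k (Env φ)).toLinearMap ∘ₗ D.toLinearMap ∘ₗ (CartDual.toDual k (Env φ)).symm.toLinearMap).dualMap ∘ₗ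
      e.toLinearMap
  have hT : ∀ (f : EnvD φ) (u : Env φ), (D f).ofConv u = f.ofConv (T u) := by
    intro f u
    have h1 : e (T u) f.ofConv = (D f).ofConv u := by
      simp only [T, LinearMap.comp_apply, LinearEquiv.coe_coe, LinearEquiv.apply_symm_apply]
      rfl
    rw [← h1]
    rfl
  have sep : ∀ {u v : Env φ}, (∀ f : EnvD φ, f.ofConv u = f.ofConv v) → u = v := fun {u v} h =>
    sub_eq_zero.1 ((Module.forall_dual_apply_eq_zero_iff k (u - v)).1 fun g => by
      rw [map_sub, sub_eq_zero]; exact h (WithConv.toConv g))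
  have hmul : ∀ a b, T (a * b) = a * T b := fun a b => sep fun f => by
    rw [← hT]
    have h := congrArg (fun z => CartDual.ev₂ k (Env φ) z (a ⊗ₜ b)) (LinearMap.congr_fun hD f)
    simp only [LinearMap.comp_apply] at h
    rw [CartDual.ev₂_coalgebra_comul_tmul, ev₂_lTensor φ _ T hT, CartDual.ev₂_coalgebra_comul_tmul] at h
    exact h
  set t := T 1 with ht
  have ht' : ∀ u, T u = u * t := fun u => by rw [ht, ← hmul, mul_one]
  have hprim : envΔ φ t = t ⊗ₜ[k] (1 : Env φ) + (1 : Env φ) ⊗ₜ[k] t := by
    refine sub_eq_zero.1 ((Module.forall_dual_apply_eq_zero_iff k _).1 fun G => ?_)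
    obtain ⟨z, rfl⟩ := (CartDual.ev₂ k (Env φ)).surjective G
    rw [map_sub, sub_eq_zero, map_add]
    induction z using TensorProduct.induction_on with
    | zero => simp
    | tmul f g =>
      have h := congrArg (fun F : EnvD φ => F.ofConv (1 : Env φ)) (D.leibniz f g)
      simp only [WithConv.ofConv_add, LinearMap.add_apply, smul_eq_mul, hT, ← ht] at h
      rw [CartDual.ev₂_tmul, CartDual.ev₂_tmul, CartDual.ev₂_tmul_eq', LinearMap.comp_apply, ← dual_mul_apply, h,
        dual_mul_apply, dual_mul_apply, map_one, Algebra.TensorProduct.one_def, TensorProduct.map_tmul,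
        TensorProduct.map_tmul, LinearMap.mul'_apply, LinearMap.mul'_apply, hT, hT, ← ht, CartDual.coe_apply,
        CartDual.coe_apply, CartDual.coe_apply, CartDual.coe_apply]
      ring
    | add v w hv hw => simp only [map_add, LinearMap.add_apply, hv, hw]; ring
  obtain ⟨x, hx⟩ := exists_eq_envι_of_primitive (Module.finBasis k L) φ hprim
  refine ⟨x, Derivation.ext fun f => WithConv.ext (LinearMap.ext fun u => ?_)⟩
  rw [hT, ht', hx]
  rfl

theorem counit_eq (f : EnvD φ) : Bialgebra.counitAlgHom k (EnvD φ) f = f.ofConv 1 := rfl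

theorem exists_height_one [Module.Finite k L] :
    ∃ (A : Type u) (_ : CommRing A) (_ : HopfAlgebra k A), Module.Finite k A ∧
      (∀ f : A, Bialgebra.counitAlgHom k A f = 0 → f ^ p = 0) ∧
      ∃ e : L →ₗ[k] Derivation k A A, Function.Injective e ∧
        Set.range e = {D : Derivation k A A | CoalgebraStruct.comul (R := k) (A := A) ∘ₗ D.toLinearMap =
          LinearMap.lTensor A D.toLinearMap ∘ₗ CoalgebraStruct.comul (R := k) (A := A)} ∧
        (∀ x y : L, e ⁅x, y⁆ = ⁅e x, e y⁆) ∧
        (∀ x : L, (e (φ x)).toLinearMap = (e x).toLinearMap ^ p) := by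
  refine ⟨EnvD φ, inferInstance, inferInstance, inferInstance, fun f hf => pow_p_eq_zero φ ((counit_eq φ f).symm.trans hf),
    envToDer φ, envToDer_injective φ, ?_, envToDer_bracket φ, envToDer_pow φ⟩
  refine Set.Subset.antisymm ?_ ?_
  · rintro _ ⟨x, rfl⟩
    exact envToDer_invariant φ x
  · intro D hD
    exact exists_of_invariant φ hD

end

end Groth.Agent.H20PLie
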