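import Groth.Prelude.Def_PLie
import Mathlib.Algebra.Polynomial.Derivative
import Mathlib.Algebra.Polynomial.Eval.Degree
import Mathlib.Algebra.Field.ZMod
import Mathlib.Algebra.Ring.GeomSum
import Mathlib.Data.Nat.Choose.Dvd
import Mathlib.Data.Fintype.Pi

/-!
Jacobson's formulae in an associative algebra of characteristic `p`.
-/

set_option autoImplicit false

universe u v w

open Polynomial

namespace Groth.Agent.H20PLie

section Ring

variable {S : Type u} [Ring S] {p : ℕ} [hp : Fact p.Prime]

theorem cast_choose_pred (h0 : (p : S) = 0) : ∀ j, j < p → ((p - 1).choose j : S) = (-1) ^ j := by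
  intro j
  induction j with
  | zero => simp
  | succ j ih =>
    intro hj
    have h : ((p.choose (j + 1) : ℕ) : S) = 0 := by
      obtain ⟨d, hd⟩ := hp.out.dvd_choose_self (Nat.succ_ne_zero j) hj
      rw [hd, Nat.cast_mul, h0, zero_mul]
    have hpas : p.choose (j + 1) = (p - 1).choose j + (p - 1).choose (j + 1) := by
      conv_lhs => rw [show p = p - 1 + 1 from (Nat.succ_pred_eq_of_pos hp.out.pos).symm]
      exact Nat.choose_succ_succ _ _
    rw [hpas, Nat.cast_add, ih (Nat.lt_of_succ_lt hj), add_eq_zero_iff_eq_neg'] at h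
    rw [h, pow_succ, mul_neg, mul_one]

theorem sub_pow_pred (h0 : (p : S) = 0) {x y : S} (h : Commute x y) :
    (x - y) ^ (p - 1) = ∑ j ∈ Finset.range p, x ^ j * y ^ (p - 1 - j) := by
  have h1 : ((-1 : S)) ^ (p - 1) = 1 := by
    rw [← cast_choose_pred h0 (p - 1) (Nat.sub_lt hp.out.pos one_pos), Nat.choose_self, Nat.cast_one]
  rw [sub_eq_add_neg, (h.neg_right).add_pow, Nat.sub_add_cancel hp.out.pos]
  refine Finset.sum_congr rfl fun j hj => ?_
  rw [Finset.mem_range] at hj
  rw [cast_choose_pred h0 j hj, neg_pow y, mul_assoc (x ^ j), ((Commute.neg_one_left (y ^ (p - 1 - j))).symm.pow_right j).right_comm,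
    ← pow_add, Nat.sub_add_cancel (Nat.le_sub_one_of_lt hj), h1, one_mul]

theorem sub_pow_prime (h0 : (p : S) = 0) {x y : S} (h : Commute x y) : (x - y) ^ p = x ^ p - y ^ p := by
  rw [← h.mul_geom_sum₂ p, ← sub_pow_pred h0 h, ← pow_succ', Nat.sub_add_cancel hp.out.pos]

/-- the commutator with `c` -/
noncomputable def adA (c : S) : Module.End ℤ S := LinearMap.mulLeft ℤ c - LinearMap.mulRight ℤ c

theorem adA_apply (c d : S) : adA c d = c * d - d * c := rfl

omit hp in
theorem end_cast_eq_zero (h0 : (p : S) = 0) : (p : Module.End ℤ S) = 0 :=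
  LinearMap.ext fun d => by rw [Module.End.natCast_apply, nsmul_eq_mul, h0, zero_mul]; rfl

theorem adA_pow_pred (h0 : (p : S) = 0) (c d : S) :
    (adA c ^ (p - 1)) d = ∑ j ∈ Finset.range p, c ^ j * d * c ^ (p - 1 - j) := by
  rw [adA, sub_pow_pred (end_cast_eq_zero h0) (LinearMap.commute_mulLeft_right c c), LinearMap.sum_apply]
  refine Finset.sum_congr rfl fun j _ => ?_
  rw [LinearMap.pow_mulLeft, LinearMap.pow_mulRight, Module.End.mul_apply, LinearMap.mulLeft_apply,
    LinearMap.mulRight_apply, mul_assoc]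

theorem adA_pow_prime (h0 : (p : S) = 0) (c : S) : adA c ^ p = adA (c ^ p) := by
  rw [adA, sub_pow_prime (end_cast_eq_zero h0) (LinearMap.commute_mulLeft_right c c), LinearMap.pow_mulLeft,
    LinearMap.pow_mulRight]
  rfl

omit hp in
theorem derivative_pow' (c : S[X]) (n : ℕ) :
    derivative (c ^ n) = ∑ j ∈ Finset.range n, c ^ j * derivative c * c ^ (n - 1 - j) := by
  induction n with
  | zero => simp
  | succ n ih =>
    rw [pow_succ, derivative_mul, ih, Finset.sum_range_succ, Finset.sum_mul]
    congr 1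
    · refine Finset.sum_congr rfl fun j hj => ?_
      rw [Finset.mem_range] at hj
      rw [mul_assoc, ← pow_succ, show n - 1 - j + 1 = n + 1 - 1 - j by omega]
    · simp

/-- iterated commutators along a word -/
def aWord (x : Bool → S) (x₁ : S) : List Bool → S
  | [] => x₁
  | i :: w => x i * aWord x x₁ w - aWord x x₁ w * x i

/-- the weight of a word: its number of `true` -/
def wt {n : ℕ} (t : Fin n → Bool) : ℕ := ∑ i, if t i then 1 else 0

omit hp in
theorem adA_pow_expand (x : Bool → S) (d : S) (n : ℕ) :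
    (adA (C (x true) * X + C (x false)) ^ n) (C d) = ∑ t : Fin n → Bool, monomial (wt t) (aWord x d (List.ofFn t)) := by
  induction n with
  | zero => simp [wt, aWord]
  | succ n ih =>
    rw [pow_succ', Module.End.mul_apply, ih, map_sum, ← (Fin.consEquiv fun _ => Bool).sum_comp, Fintype.sum_prod_type,
      Fintype.sum_bool, ← Finset.sum_add_distrib]
    refine Finset.sum_congr rfl fun t _ => ?_
    rw [adA_apply]
    have key : ∀ i : Bool, List.ofFn ((Fin.consEquiv fun _ => Bool) (i, t)) = i :: List.ofFn t := fun i =>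
      List.ofFn_cons i t
    rw [key, key]
    simp only [Fin.consEquiv_apply, List.ofFn_cons, aWord, wt, Fin.sum_univ_succ, Fin.cons_zero, Fin.cons_succ,
      if_true, if_false, Bool.false_eq_true, zero_add]
    rw [C_mul_X_eq_monomial, ← @monomial_zero_left S _ (x false)]
    simp only [add_mul, mul_add, monomial_mul_monomial, zero_add, add_zero, map_sub]
    rw [add_comm 1 (∑ i, if t i then 1 else 0)]
    abel

omit hp in
theorem natDegree_lin_le (a b : S) : (C a * X + C b).natDegree ≤ 1 :=
  (natDegree_add_le _ _).trans (max_le ((natDegree_C_mul_X_pow_le a 1).trans' (by rw [pow_one])) (by simp))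

omit hp in
theorem coeff_lin_pow (a b : S) (n : ℕ) : ((C a * X + C b) ^ n).coeff n = a ^ n := by
  induction n with
  | zero => simp
  | succ n ih =>
    rw [pow_succ, mul_add, coeff_add, ← mul_assoc, coeff_mul_X, coeff_mul_C, coeff_mul_C, ih, pow_succ,
      coeff_eq_zero_of_natDegree_lt (lt_of_le_of_lt (natDegree_pow_le.trans (Nat.mul_le_mul_left n (natDegree_lin_le a b)))
        (by omega)), zero_mul, add_zero]

end Ring

section Formula

variable {R : Type u} [CommRing R] {p : ℕ} [CharP R p] {L : Type v} [LieRing L] [LieAlgebra R L]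
  {A : Type w} [Ring A] [Algebra R A]

theorem cast_eq_zero_of_algebra (R : Type u) [CommRing R] [CharP R p] [Algebra R A] : (p : A) = 0 := by
  rw [← map_natCast (algebraMap R A), CharP.cast_eq_zero, map_zero]

variable {e : L →ₗ[R] A}

theorem map_bracketWord (he : ∀ x y : L, e ⁅x, y⁆ = e x * e y - e y * e x) (x : Bool → L) (x₁ : L) :
    ∀ l : List Bool, e (PLie.bracketWord x x₁ l) = aWord (fun b => e (x b)) (e x₁) l
  | [] => rfl
  | i :: l => by rw [PLie.bracketWord_cons, he, map_bracketWord he x x₁ l]; rfl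

theorem map_ad_pow (he : ∀ x y : L, e ⁅x, y⁆ = e x * e y - e y * e x) (x y : L) (n : ℕ) :
    e ((LieAlgebra.ad R L x ^ n) y) = (adA (e x) ^ n) (e y) := by
  induction n with
  | zero => rfl
  | succ n ih =>
    rw [pow_succ', pow_succ', Module.End.mul_apply, Module.End.mul_apply, LieAlgebra.ad_apply, he, ih, adA_apply]

variable [hp : Fact p.Prime]

theorem map_pow_add (he : ∀ x y : L, e ⁅x, y⁆ = e x * e y - e y * e x) (x₀ x₁ : L) :
    (e x₀ + e x₁) ^ p = e x₀ ^ p + e x₁ ^ p - e (PLie.jacobson R p x₀ x₁) := by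
  classical
  have h0 : (p : A) = 0 := cast_eq_zero_of_algebra R
  have h0' : (p : A[X]) = 0 := by rw [← map_natCast C, h0, map_zero]
  set a := e x₁ with ha
  set b := e x₀ with hb
  set P : A[X] := (C a * X + C b) ^ p with hP
  let x : Bool → A := fun i => e (PLie.pair x₀ x₁ i)
  have hx1 : x true = a := rfl
  have hx0 : x false = b := rfl
  -- the coefficients
  have hder : derivative P = ∑ t : Fin (p - 1) → Bool, monomial (wt t) (aWord x a (List.ofFn t)) := by
    rw [← adA_pow_expand x a, hx1, hx0, hP, derivative_pow', ← adA_pow_pred h0']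
    congr 1
    simp
  have hcoef : ∀ m : ℕ, (∑ t ∈ Finset.univ.filter (fun t : Fin (p - 1) → Bool => wt t = m),
      aWord x a (List.ofFn t)) = (m + 1 : ℕ) • P.coeff (m + 1) := by
    intro m
    rw [nsmul_eq_mul, Nat.cast_comm, Nat.cast_succ, ← coeff_derivative, hder, finset_sum_coeff, Finset.sum_filter]
    exact Finset.sum_congr rfl fun t _ => by rw [coeff_monomial]
  have hcard : ∀ t : Fin (p - 1) → Bool, Fintype.card {i // t i = false} = p - 1 - wt t ∧ wt t < p := by
    intro t
    have h1 : wt t + Fintype.card {i // t i = false} = p - 1 := by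
      rw [Fintype.card_subtype, Finset.card_filter, wt, ← Finset.sum_add_distrib]
      conv_rhs => rw [← Finset.card_fin (p - 1), Finset.card_eq_sum_ones]
      exact Finset.sum_congr rfl fun i _ => by cases t i <;> simp
    have := hp.out.pos
    omega
  -- the sum
  let φ := ZMod.castHom (dvd_refl p) R
  have hJ : e (PLie.jacobson R p x₀ x₁) = - ∑ m ∈ Finset.range (p - 1), P.coeff (m + 1) := by
    rw [PLie.jacobson, map_sum, ← Finset.sum_fiberwise_of_maps_to (g := wt) (t := Finset.range p)
      (fun t _ => Finset.mem_range.mpr (hcard t).2)]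
    have hsum : ∀ m, (∑ t ∈ Finset.univ.filter (fun t : Fin (p - 1) → Bool => wt t = m),
        e (φ ((Fintype.card {i // t i = false} : ZMod p)⁻¹) • PLie.bracketWord (PLie.pair x₀ x₁) x₁ (List.ofFn t))) =
        φ (((p - 1 - m : ℕ) : ZMod p)⁻¹) • ((m + 1 : ℕ) • P.coeff (m + 1)) := by
      intro m
      rw [← hcoef, Finset.smul_sum]
      refine Finset.sum_congr rfl fun t ht => ?_
      rw [map_smul, map_bracketWord he, (hcard t).1, (Finset.mem_filter.mp ht).2]
    rw [Finset.sum_congr rfl fun m _ => hsum m]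
    rw [show Finset.range p = Finset.range (p - 1 + 1) by rw [Nat.sub_add_cancel hp.out.pos], Finset.sum_range_succ]
    simp only [Nat.sub_self, Nat.cast_zero, ZMod.inv_zero, map_zero, zero_smul, add_zero]
    rw [← Finset.sum_neg_distrib]
    refine Finset.sum_congr rfl fun m hm => ?_
    rw [Finset.mem_range] at hm
    have hm' : m + 1 < p := by omega
    rw [← Nat.cast_smul_eq_nsmul R (m + 1) (P.coeff (m + 1)), smul_smul, ← map_natCast φ (m + 1), ← map_mul]
    have hne : ((m + 1 : ℕ) : ZMod p) ≠ 0 := by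
      rw [Ne, ZMod.natCast_eq_zero_iff]
      exact fun h => absurd (Nat.le_of_dvd m.succ_pos h) (by omega)
    have hneg : ((p - 1 - m : ℕ) : ZMod p) = -((m + 1 : ℕ) : ZMod p) := by
      rw [eq_neg_iff_add_eq_zero, ← Nat.cast_add, show p - 1 - m + (m + 1) = p by omega, ZMod.natCast_self]
    have hinv := ZMod.inv_mul_of_unit (-((m + 1 : ℕ) : ZMod p)) (neg_ne_zero.mpr hne).isUnit
    rw [mul_neg, neg_eq_iff_eq_neg] at hinv
    rw [hneg, hinv, map_neg, map_one, neg_one_smul]
  -- evaluation at one
  let ev : A[X] →+* A := eval₂RingHom' (RingHom.id A) 1 fun r => Commute.one_right r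
  have hev : ev P = (b + a) ^ p := by
    rw [hP, map_pow]
    congr 1
    show eval₂ (RingHom.id A) 1 (C a * X + C b) = _
    rw [eval₂_add, eval₂_C, C_mul_X_eq_monomial, eval₂_monomial]
    simp [add_comm]
  have hev' : ev P = ∑ i ∈ Finset.range (p + 1), P.coeff i := by
    show eval₂ (RingHom.id A) 1 P = _
    rw [eval₂_eq_sum_range' (RingHom.id A) (n := p + 1) (Nat.lt_succ_of_le ?_)]
    · simp
    · rw [hP]
      exact natDegree_pow_le.trans ((Nat.mul_le_mul_left p (natDegree_lin_le a b)).trans (by rw [mul_one]))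
  have hc0 : P.coeff 0 = b ^ p := by
    rw [hP, ← constantCoeff_apply, map_pow]
    simp
  rw [← hev, hev', Finset.sum_range_succ', hc0, hJ, sub_neg_eq_add]
  rw [show Finset.range p = Finset.range (p - 1 + 1) by rw [Nat.sub_add_cancel hp.out.pos], Finset.sum_range_succ,
    Nat.sub_add_cancel hp.out.pos]
  conv_lhs => rw [hP, coeff_lin_pow]
  abel

theorem map_ad_prime (he : ∀ x y : L, e ⁅x, y⁆ = e x * e y - e y * e x) (x y : L) :
    e ((LieAlgebra.ad R L x ^ p) y) = e x ^ p * e y - e y * e x ^ p := by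
  rw [map_ad_pow he, adA_pow_prime (cast_eq_zero_of_algebra R), adA_apply]

end Formula

end Groth.Agent.H20PLie
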