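import Groth.Prelude.Def_PLie
import Mathlib.Algebra.Lie.Engel
import Mathlib.Algebra.Lie.Solvable
import Mathlib.Algebra.Lie.Nilpotent

/-!
The radical and the nilradical of a restricted Lie algebra are stable under the `p`-map.
-/

set_option autoImplicit false

universe u v

namespace Groth.Agent.H20PLie

variable {k : Type u} [Field k] {p : ℕ} [hp : Fact p.Prime] [CharP k p]
  {L : Type v} [LieRing L] [LieAlgebra k L]

omit hp in
theorem ad_iterate (φ : PLie.PMap k p L) (x : L) (m : ℕ) :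
    LieAlgebra.ad k L (φ.toFun^[m] x) = LieAlgebra.ad k L x ^ p ^ m := by
  induction m with
  | zero => simp
  | succ m ih => rw [Function.iterate_succ_apply', φ.ad_map, ih, ← pow_mul, pow_succ]

theorem lie_pMap_mem (φ : PLie.PMap k p L) (I : LieIdeal k L) {x : L} (hx : x ∈ I) (y : L) : ⁅y, φ x⁆ ∈ I := by
  have h := LinearMap.congr_fun (φ.ad_map x) y
  have e : LieAlgebra.ad k L x ^ p = LieAlgebra.ad k L x * LieAlgebra.ad k L x ^ (p - 1) := by
    rw [← pow_succ', Nat.sub_add_cancel hp.out.pos]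
  rw [LieAlgebra.ad_apply, e, Module.End.mul_apply, LieAlgebra.ad_apply] at h
  rw [← lie_skew, h]
  exact neg_mem (lie_mem_left k L I _ _ hx)

/-- an ideal together with the `p`-th power of one of its elements -/
def adjoinP (φ : PLie.PMap k p L) (I : LieIdeal k L) {x : L} (hx : x ∈ I) : LieIdeal k L :=
  { toSubmodule := I.toSubmodule ⊔ k ∙ (φ x)
    lie_mem := fun {y m} hm => by
      obtain ⟨i, hi, j, hj, rfl⟩ := Submodule.mem_sup.mp hm
      obtain ⟨c, rfl⟩ := Submodule.mem_span_singleton.mp hj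
      rw [lie_add, lie_smul]
      exact Submodule.mem_sup_left (add_mem (lie_mem_right k L I y i hi) (I.toSubmodule.smul_mem c (lie_pMap_mem φ I hx y))) }

theorem mem_adjoinP (φ : PLie.PMap k p L) (I : LieIdeal k L) {x : L} (hx : x ∈ I) {z : L} :
    z ∈ adjoinP φ I hx ↔ ∃ i ∈ I, ∃ c : k, i + c • φ x = z := by
  show z ∈ I.toSubmodule ⊔ k ∙ (φ x) ↔ _
  simp only [Submodule.mem_sup, Submodule.mem_span_singleton]
  constructor
  · rintro ⟨i, hi, j, ⟨c, rfl⟩, rfl⟩; exact ⟨i, hi, c, rfl⟩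
  · rintro ⟨i, hi, c, rfl⟩; exact ⟨i, hi, _, ⟨c, rfl⟩, rfl⟩

theorem pMap_mem_adjoinP (φ : PLie.PMap k p L) (I : LieIdeal k L) {x : L} (hx : x ∈ I) : φ x ∈ adjoinP φ I hx :=
  (mem_adjoinP φ I hx).mpr ⟨0, I.zero_mem, 1, by simp⟩

theorem pMap_mem_radical [Module.Finite k L] (φ : PLie.PMap k p L) {x : L} (hx : x ∈ LieAlgebra.radical k L) :
    φ x ∈ LieAlgebra.radical k L := by
  set I := LieAlgebra.radical k L
  suffices h : LieAlgebra.IsSolvable (adjoinP φ I hx) from
    (LieAlgebra.LieIdeal.solvable_iff_le_radical k L _).mp h (pMap_mem_adjoinP φ I hx)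
  haveI : LieAlgebra.IsSolvable I := LieAlgebra.radicalIsSolvable k L
  obtain ⟨n, hn⟩ := LieAlgebra.IsSolvable.solvable k I
  rw [LieIdeal.derivedSeries_eq_bot_iff] at hn
  have h1 : LieAlgebra.derivedSeriesOfIdeal k L 1 (adjoinP φ I hx) ≤ I := by
    rw [LieAlgebra.derivedSeriesOfIdeal_succ, LieAlgebra.derivedSeriesOfIdeal_zero, LieSubmodule.lie_le_iff]
    intro a ha b hb
    obtain ⟨i, hi, c, rfl⟩ := (mem_adjoinP φ I hx).mp ha
    obtain ⟨j, hj, d, rfl⟩ := (mem_adjoinP φ I hx).mp hb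
    rw [add_lie, smul_lie, lie_add (φ x), lie_smul, lie_self, smul_zero, add_zero]
    refine add_mem (lie_mem_left k L I _ _ hi) (I.toSubmodule.smul_mem c (lie_mem_right k L I _ _ hj))
  refine LieAlgebra.IsSolvable.mk (R := k) (k := n + 1) ((LieIdeal.derivedSeries_eq_bot_iff _ _).mpr ?_)
  rw [LieAlgebra.derivedSeriesOfIdeal_add, eq_bot_iff, ← hn]
  exact LieAlgebra.derivedSeriesOfIdeal_mono h1 n

/-- the iterated bracket of an ideal into the whole algebra lands in its lower central series -/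
theorem lcs_succ_le (I : LieIdeal k L) (m : ℕ) :
    (I.lcs L (m + 1)).toSubmodule ≤ (LieModule.lowerCentralSeries k I I m).toSubmodule.map I.toSubmodule.subtype := by
  induction m with
  | zero =>
    intro z hz
    have hzI : z ∈ I := by
      rw [LieSubmodule.mem_toSubmodule, LieIdeal.lcs_succ, LieIdeal.lcs_zero] at hz
      exact LieSubmodule.lie_le_left I ⊤ hz
    exact ⟨⟨z, hzI⟩, by simp, rfl⟩
  | succ m ih =>
    rw [LieIdeal.lcs_succ, LieSubmodule.lieIdeal_oper_eq_linear_span', Submodule.span_le]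
    rintro _ ⟨a, ha, b, hb, rfl⟩
    obtain ⟨b', hb', rfl⟩ := ih hb
    refine ⟨⁅(⟨a, ha⟩ : I), b'⁆, ?_, rfl⟩
    rw [LieModule.lowerCentralSeries_succ]
    exact LieSubmodule.lie_mem_lie (LieSubmodule.mem_top _) hb'

theorem exists_lcs_eq_bot (I : LieIdeal k L) (hI : LieRing.IsNilpotent I) : ∃ N, I.lcs L N = ⊥ := by
  obtain ⟨n, hn⟩ := LieModule.IsNilpotent.nilpotent k I I
  refine ⟨n + 1, (LieSubmodule.toSubmodule_eq_bot _).mp (le_bot_iff.mp ((lcs_succ_le I n).trans ?_))⟩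
  rw [hn]
  simp

theorem lie_mem_lcs_succ (I : LieIdeal k L) {a z : L} (ha : a ∈ I) {m : ℕ} (hz : z ∈ I.lcs L m) :
    ⁅a, z⁆ ∈ I.lcs L (m + 1) := by
  rw [LieIdeal.lcs_succ]
  exact LieSubmodule.lie_mem_lie ha hz

theorem lcs_le (I : LieIdeal k L) (m j : ℕ) : I.lcs L (m + j) ≤ I.lcs L m := by
  induction j with
  | zero => exact le_rfl
  | succ j ih => rw [← add_assoc, LieIdeal.lcs_succ]; exact (LieSubmodule.lie_le_right _ _).trans ih

omit hp in
theorem ad_pow_mem_lcs (I : LieIdeal k L) {a z : L} (ha : a ∈ I) {m : ℕ} (hz : z ∈ I.lcs L m) (j : ℕ) :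
    (LieAlgebra.ad k L a ^ j) z ∈ I.lcs L (m + j) := by
  induction j with
  | zero => simpa using hz
  | succ j ih => rw [pow_succ', Module.End.mul_apply, ← add_assoc]; exact lie_mem_lcs_succ I ha ih

theorem pMap_mem_nilradical [Module.Finite k L] (φ : PLie.PMap k p L) (N : LieIdeal k L) (hN : LieRing.IsNilpotent N)
    (hmax : ∀ I : LieIdeal k L, LieRing.IsNilpotent I → I ≤ N) {x : L} (hx : x ∈ N) : φ x ∈ N := by
  refine hmax (adjoinP φ N hx) ?_ (pMap_mem_adjoinP φ N hx)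
  obtain ⟨M, hM⟩ := exists_lcs_eq_bot N hN
  have hstep : ∀ u ∈ adjoinP φ N hx, ∀ (m : ℕ), ∀ z ∈ N.lcs L m, ⁅u, z⁆ ∈ N.lcs L (m + 1) := by
    intro u hu m z hz
    obtain ⟨i, hi, c, rfl⟩ := (mem_adjoinP φ N hx).mp hu
    rw [add_lie, smul_lie]
    refine add_mem (lie_mem_lcs_succ N hi hz) ((N.lcs L (m + 1)).toSubmodule.smul_mem c ?_)
    have h := LinearMap.congr_fun (φ.ad_map x) z
    rw [LieAlgebra.ad_apply] at h
    rw [h]
    have h2 := ad_pow_mem_lcs N hx hz p
    rw [show m + p = m + 1 + (p - 1) by have := hp.out.pos; omega] at h2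
    exact lcs_le N _ _ h2
  rw [LieAlgebra.isNilpotent_iff_forall (R := k)]
  rintro ⟨u, hu⟩
  refine ⟨M, LinearMap.ext fun y => Subtype.ext ?_⟩
  have hit : ∀ m, ((((LieAlgebra.ad k (adjoinP φ N hx) ⟨u, hu⟩) ^ m) y : adjoinP φ N hx) : L) ∈ N.lcs L m := by
    intro m
    induction m with
    | zero => simp
    | succ m ih => rw [pow_succ', Module.End.mul_apply]; exact hstep u hu m _ ih
  have := hit M
  rw [hM, LieSubmodule.mem_bot] at this
  rw [this]
  rfl

theorem isNilpotent_ad_of_mem (I : LieIdeal k L) (hI : LieRing.IsNilpotent I) {x : L} (hx : x ∈ I) :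
    IsNilpotent (LieAlgebra.ad k L x) := by
  obtain ⟨M, hM⟩ := exists_lcs_eq_bot I hI
  refine ⟨M, LinearMap.ext fun y => ?_⟩
  have := ad_pow_mem_lcs I hx (m := 0) (z := y) (by simp) M
  rw [Nat.zero_add, hM, LieSubmodule.mem_bot] at this
  rw [this]
  rfl

end Groth.Agent.H20PLie
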