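import Groth.Agent.H20PLie.Basis
import Mathlib.LinearAlgebra.Matrix.ToLin
import Mathlib.Data.Multiset.Sort

/-!
A faithful representation of a restricted Lie algebra which is free of finite rank.
-/

set_option autoImplicit false

universe u v w

open Groth.Agent.H20PBW

namespace Groth.Agent.H20PLie

noncomputable section

variable {R : Type u} [CommRing R] {p : ℕ} [CharP R p] {L : Type v} [LieRing L] [LieAlgebra R L]
  {ι : Type w} [LinearOrder ι] (b : Module.Basis ι R L)

/-- the representation on sorted lists, valued in endomorphisms -/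
def Ae : L →ₗ[R] Module.End R (P R ι) := A b

theorem Ae_apply (x : L) : Ae b x = A b x := rfl

/-- the sorted list of a multiset -/
def mkSL (s : Multiset ι) : SL ι := ⟨s.sort (· ≤ ·), (Multiset.pairwise_sort s _).sortedLE⟩

/-- the multiset of a sorted list -/
abbrev ms (l : SL ι) : Multiset ι := (l.1 : Multiset ι)

theorem ms_mkSL (s : Multiset ι) : ms (mkSL s) = s := Multiset.sort_eq s _

theorem ms_injective : Function.Injective (ms : SL ι → Multiset ι) := fun l l' h =>
  Subtype.ext ((Multiset.coe_eq_coe.mp h).eq_of_pairwise (fun a b _ _ hab hba => le_antisymm hab hba)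
    l.2.pairwise l'.2.pairwise)

theorem mkSL_ms (l : SL ι) : mkSL (ms l) = l := ms_injective (ms_mkSL _)

theorem ins_mkSL (i : ι) (s : Multiset ι) : ins i (mkSL s) = mkSL (i ::ₘ s) := by
  refine ms_injective ?_
  rw [ms_mkSL]
  exact (Multiset.coe_eq_coe.mpr (List.perm_orderedInsert _ i _)).trans
    ((Multiset.cons_coe i _).symm.trans (congrArg (i ::ₘ ·) (ms_mkSL s)))

theorem length_mkSL (s : Multiset ι) : (mkSL s).1.length = s.card := by simp [mkSL]

/-- the basis vector of a multiset -/
def wv (s : Multiset ι) : P R ι := z (mkSL s)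

/-- vectors supported on lists of length less than `n` -/
def Dlt (n : ℕ) : Submodule R (P R ι) := Finsupp.supported R R {l | l.1.length < n}

theorem Dlt_mono {m n : ℕ} (h : m ≤ n) : (Dlt m : Submodule R (P R ι)) ≤ Dlt n :=
  Finsupp.supported_mono fun _ hl => lt_of_lt_of_le hl h

theorem Dlt_succ (n : ℕ) : (Dlt (n + 1) : Submodule R (P R ι)) = Plt n := by
  simp [Dlt, Plt, Nat.lt_succ_iff]

theorem Dlt_zero : (Dlt 0 : Submodule R (P R ι)) = ⊥ := by
  simp [Dlt]

theorem wv_mem {s : Multiset ι} {n : ℕ} (h : s.card < n) : (wv s : P R ι) ∈ Dlt n :=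
  Finsupp.single_mem_supported R 1 (by rw [Set.mem_ofPred_eq, length_mkSL]; exact h)

theorem A_mem_Dlt (x : L) {n : ℕ} {v : P R ι} (hv : v ∈ Dlt n) : Ae b x v ∈ Dlt (n + 1) := by
  cases n with
  | zero =>
    rw [Dlt_zero] at hv
    rw [(Submodule.mem_bot R).mp hv, map_zero]
    exact zero_mem _
  | succ n =>
    rw [Dlt_succ] at hv ⊢
    exact A_mem b x hv

theorem pow_mem_Dlt (x : L) (m : ℕ) {n : ℕ} {v : P R ι} (hv : v ∈ Dlt n) : (Ae b x ^ m) v ∈ Dlt (n + m) := by
  induction m with
  | zero => exact hv
  | succ m ih =>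
    rw [pow_succ', Module.End.mul_apply]
    exact A_mem_Dlt b x ih

theorem A_wv (i : ι) (s : Multiset ι) : Ae b (b i) (wv s) - wv (i ::ₘ s) ∈ Dlt (s.card + 1) := by
  rw [wv, wv, Ae_apply, A_basis, ← ins_mkSL, Dlt_succ, ← length_mkSL s]
  exact act_sub_mem b _ i _ le_rfl

theorem pow_wv (i : ι) (m : ℕ) (s : Multiset ι) :
    (Ae b (b i) ^ m) (wv s) - wv (Multiset.replicate m i + s) ∈ Dlt (s.card + m) := by
  induction m with
  | zero => simp
  | succ m ih =>
    rw [pow_succ', Module.End.mul_apply, Multiset.replicate_succ, Multiset.cons_add,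
      ← sub_add_sub_cancel _ (Ae b (b i) (wv (Multiset.replicate m i + s))) _, ← map_sub]
    refine add_mem (A_mem_Dlt b _ ih) (Dlt_mono ?_ (A_wv b i _))
    simp only [Multiset.card_add, Multiset.card_replicate]
    omega

variable [hp : Fact p.Prime] (φ : PLie.PMap R p L)

omit hp in
theorem A_bracket (x y : L) : Ae b ⁅x, y⁆ = Ae b x * Ae b y - Ae b y * Ae b x :=
  LinearMap.ext fun q => (comm b q x y).symm

/-- the central operators -/
def zeta (i : ι) : Module.End R (P R ι) := Ae b (b i) ^ p - Ae b (φ (b i))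

theorem zeta_commute_A (i : ι) (y : L) : Commute (zeta b φ i) (Ae b y) := by
  have h := map_ad_prime (p := p) (A := Module.End R (P R ι)) (e := Ae b) (A_bracket b) (b i) y
  rw [← φ.ad_map, LieAlgebra.ad_apply, A_bracket] at h
  refine LinearMap.ext fun v => ?_
  have hv := LinearMap.congr_fun h v
  simp only [zeta, Module.End.mul_apply, LinearMap.sub_apply, map_sub] at hv ⊢
  linear_combination (norm := abel) -hv

theorem zeta_commute (i j : ι) : Commute (zeta b φ i) (zeta b φ j) :=
  LinearMap.ext fun v => by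
    show zeta b φ i ((Ae b (b j) ^ p - Ae b (φ (b j))) v) = (Ae b (b j) ^ p - Ae b (φ (b j))) (zeta b φ i v)
    rw [LinearMap.sub_apply, LinearMap.sub_apply, map_sub, ← Module.End.mul_apply, ← Module.End.mul_apply,
      ((zeta_commute_A b φ i (b j)).pow_right p).eq, (zeta_commute_A b φ i (φ (b j))).eq]
    rfl

instance : LeftCommutative fun (i : ι) (v : P R ι) => zeta b φ i v :=
  ⟨fun i j v => LinearMap.congr_fun (zeta_commute b φ i j).eq v⟩

theorem zeta_mem_Dlt (i : ι) {n : ℕ} {v : P R ι} (hv : v ∈ Dlt n) : zeta b φ i v ∈ Dlt (n + p) :=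
  sub_mem (pow_mem_Dlt b _ p hv) (Dlt_mono (Nat.add_le_add_left hp.out.pos n) (A_mem_Dlt b _ hv))

theorem zeta_wv (i : ι) (s : Multiset ι) :
    zeta b φ i (wv s) - wv (Multiset.replicate p i + s) ∈ Dlt (s.card + p) := by
  rw [zeta, LinearMap.sub_apply, sub_right_comm]
  refine sub_mem (pow_wv b i p s) (Dlt_mono ?_ (A_mem_Dlt b _ (wv_mem s.card.lt_succ_self)))
  have := hp.out.two_le
  omega

/-- products of central operators -/
def fold (m : Multiset ι) (v : P R ι) : P R ι := m.foldr (fun i v => zeta b φ i v) v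

theorem fold_wv (m r : Multiset ι) : fold b φ m (wv r) - wv (p • m + r) ∈ Dlt (p • m + r).card := by
  induction m using Multiset.induction with
  | empty => simp [fold]
  | cons i m ih =>
    have heq : p • (i ::ₘ m) + r = Multiset.replicate p i + (p • m + r) := by
      rw [← Multiset.singleton_add, smul_add, Multiset.nsmul_singleton, add_assoc]
    rw [fold, Multiset.foldr_cons, heq, ← sub_add_sub_cancel _ (zeta b φ i (wv (p • m + r))) _, ← map_sub,
      Multiset.card_add, Multiset.card_replicate, add_comm p]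
    exact add_mem (zeta_mem_Dlt b φ i ih) (zeta_wv b φ i _)

section Decomp

variable [Fintype ι]

/-- quotient exponents -/
def quo (p : ℕ) (s : Multiset ι) : Multiset ι := ∑ j, Multiset.replicate (s.count j / p) j

/-- remaining exponents -/
def rmd (p : ℕ) (s : Multiset ι) : Multiset ι := ∑ j, Multiset.replicate (s.count j % p) j

omit hp in
theorem count_sum_replicate (f : ι → ℕ) (i : ι) : (∑ j, Multiset.replicate (f j) j).count i = f i := by
  rw [Multiset.count_sum', Finset.sum_eq_single i (fun j _ hj => by rw [Multiset.count_replicate, if_neg hj])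
    (fun h => absurd (Finset.mem_univ i) h), Multiset.count_replicate, if_pos rfl]

omit hp in
theorem quo_add_rmd (s : Multiset ι) : p • quo p s + rmd p s = s := by
  ext i
  rw [Multiset.count_add, Multiset.count_nsmul, quo, rmd, count_sum_replicate, count_sum_replicate,
    Nat.div_add_mod]

theorem quo_replicate_add (i : ι) (s : Multiset ι) : quo p (Multiset.replicate p i + s) = i ::ₘ quo p s := by
  ext j
  rw [quo, count_sum_replicate, Multiset.count_add, Multiset.count_replicate, Multiset.count_cons, quo,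
    count_sum_replicate]
  by_cases h : i = j
  · subst h
    rw [if_pos rfl, if_pos rfl, Nat.add_div_left _ hp.out.pos]
  · rw [if_neg h, if_neg (Ne.symm h), zero_add, add_zero]

omit hp in
theorem rmd_replicate_add (i : ι) (s : Multiset ι) : rmd p (Multiset.replicate p i + s) = rmd p s := by
  ext j
  rw [rmd, count_sum_replicate, Multiset.count_add, Multiset.count_replicate, rmd, count_sum_replicate]
  by_cases h : i = j
  · rw [if_pos h, Nat.add_mod_left]
  · rw [if_neg h, zero_add]

/-- the adapted basis vectors -/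
def tw (s : Multiset ι) : P R ι := fold b φ (quo p s) (wv (rmd p s))

theorem tw_sub_mem (s : Multiset ι) : tw b φ s - wv s ∈ Dlt s.card := by
  have h := fold_wv b φ (quo p s) (rmd p s)
  rwa [quo_add_rmd] at h

theorem tw_replicate_add (i : ι) (s : Multiset ι) :
    tw b φ (Multiset.replicate p i + s) = zeta b φ i (tw b φ s) := by
  rw [tw, quo_replicate_add, rmd_replicate_add, fold, Multiset.foldr_cons]
  rfl

/-- the change of basis -/
def Tl : P R ι →ₗ[R] P R ι := Finsupp.linearCombination R fun l => tw b φ (ms l)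

theorem Tl_single (l : SL ι) : Tl b φ (z l) = tw b φ (ms l) := by
  simp [Tl, z]

theorem Tl_sub_mem {n : ℕ} {v : P R ι} (hv : v ∈ Dlt (n + 1)) : Tl b φ v - v ∈ Dlt n := by
  rw [Dlt, Finsupp.supported_eq_span_single] at hv
  induction hv using Submodule.span_induction with
  | mem q hq =>
    obtain ⟨l, hl, rfl⟩ := hq
    show Tl b φ (z l) - z l ∈ _
    have h := tw_sub_mem b φ (ms l)
    rw [wv, mkSL_ms] at h
    rw [Tl_single]
    exact Dlt_mono (Nat.lt_succ_iff.mp hl) h
  | zero => simp
  | add q r _ _ hq hr => rw [map_add, add_sub_add_comm]; exact add_mem hq hr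
  | smul c q _ hq => rw [map_smul, ← smul_sub]; exact Submodule.smul_mem _ _ hq

omit hp in
theorem exists_mem_Dlt (v : P R ι) : ∃ n, v ∈ Dlt n :=
  ⟨v.support.sup (fun l => l.1.length) + 1, (Finsupp.mem_supported R v).mpr fun _ hl =>
    Nat.lt_succ_of_le (Finset.le_sup (f := fun l : SL ι => l.1.length) hl)⟩

theorem Tl_bijective : Function.Bijective (Tl b φ) := by
  constructor
  · rw [injective_iff_map_eq_zero]
    intro v hv
    obtain ⟨n, hn⟩ := exists_mem_Dlt v
    induction n with
    | zero => rwa [Dlt_zero, Submodule.mem_bot] at hn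
    | succ n ih =>
      refine ih ?_
      have h := Tl_sub_mem b φ hn
      rw [hv, zero_sub] at h
      simpa using neg_mem h
  · intro v
    obtain ⟨n, hn⟩ := exists_mem_Dlt v
    induction n generalizing v with
    | zero => exact ⟨0, by rw [Dlt_zero, Submodule.mem_bot] at hn; rw [hn, map_zero]⟩
    | succ n ih =>
      obtain ⟨u, hu⟩ := ih (v - Tl b φ v) (by simpa using neg_mem (Tl_sub_mem b φ hn))
      exact ⟨u + v, by rw [map_add, hu, sub_add_cancel]⟩

/-- restricted lists -/
abbrev Res (p : ℕ) (ι : Type w) [LinearOrder ι] := {l : SL ι // ∀ i, (ms l).count i < p}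

instance : Finite (Res p ι) := by
  refine Finite.of_injective (fun l i => (⟨(ms l.1).count i, l.2 i⟩ : Fin p)) fun l l' h =>
    Subtype.ext (ms_injective (Multiset.ext.mpr fun i => ?_))
  exact congrArg Fin.val (congrFun h i)

/-- projection to the restricted part -/
def prj : P R ι →ₗ[R] (Res p ι →₀ R) :=
  Finsupp.lsubtypeDomain {l : SL ι | ∀ i, (ms l).count i < p} ∘ₗ (LinearEquiv.ofBijective (Tl b φ) (Tl_bijective b φ)).symm.toLinearMap

theorem prj_tw (l : SL ι) :
    prj b φ (tw b φ (ms l)) = if h : ∀ i, (ms l).count i < p then Finsupp.single ⟨l, h⟩ 1 else 0 := by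
  rw [← Tl_single, prj, LinearMap.comp_apply, LinearEquiv.coe_coe,
    show Tl b φ (z l) = LinearEquiv.ofBijective (Tl b φ) (Tl_bijective b φ) (z l) from rfl,
    LinearEquiv.symm_apply_apply]
  classical
  split_ifs with h
  · ext m
    show (Finsupp.single l (1 : R)) m.1 = _
    simp [Finsupp.single_apply, Subtype.ext_iff]
  · ext m
    show (Finsupp.single l (1 : R)) m.1 = 0
    exact Finsupp.single_eq_of_ne fun e => h (by rw [← e]; exact m.2)

theorem Tl_ext {M : Type*} [AddCommGroup M] [Module R M] {f g : P R ι →ₗ[R] M}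
    (h : ∀ l : SL ι, f (tw b φ (ms l)) = g (tw b φ (ms l))) : f = g := by
  have h' : f ∘ₗ Tl b φ = g ∘ₗ Tl b φ := Finsupp.lhom_ext' fun l => LinearMap.ext_ring <| by
    simpa [Tl] using h l
  exact LinearMap.ext fun v => by
    obtain ⟨u, rfl⟩ := (Tl_bijective b φ).2 v
    exact LinearMap.congr_fun h' u

theorem prj_zeta (i : ι) (v : P R ι) : prj b φ (zeta b φ i v) = 0 := by
  suffices prj b φ ∘ₗ zeta b φ i = 0 from LinearMap.congr_fun this v
  refine Tl_ext b φ fun l => ?_
  rw [LinearMap.comp_apply, ← tw_replicate_add, LinearMap.zero_apply, ← ms_mkSL (Multiset.replicate p i + ms l),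
    prj_tw, dif_neg]
  intro h
  have := h i
  rw [ms_mkSL, Multiset.count_add, Multiset.count_replicate_self] at this
  omega

/-- the inclusion of the restricted part -/
def incl : (Res p ι →₀ R) →ₗ[R] P R ι := Finsupp.linearCombination R fun l => tw b φ (ms l.1)

/-- the representation -/
def rep' : L →ₗ[R] Module.End R (Res p ι →₀ R) :=
  LinearMap.llcomp R _ _ _ (prj b φ) ∘ₗ (LinearMap.lcomp R (P R ι) (incl b φ) ∘ₗ Ae b)

theorem prj_A (x : L) (v : P R ι) : prj b φ (Ae b x v) = rep' b φ x (prj b φ v) := by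
  suffices prj b φ ∘ₗ Ae b x = rep' b φ x ∘ₗ prj b φ from LinearMap.congr_fun this v
  refine Tl_ext b φ fun l => ?_
  rw [LinearMap.comp_apply, LinearMap.comp_apply, prj_tw]
  by_cases h : ∀ i, (ms l).count i < p
  · rw [dif_pos h]
    simp [rep', incl]
  · rw [dif_neg h, map_zero]
    push Not at h
    obtain ⟨i, hi⟩ := h
    obtain ⟨s, hs⟩ := Multiset.le_iff_exists_add.mp (Multiset.le_count_iff_replicate_le.mp hi)
    rw [hs, tw_replicate_add, ← Module.End.mul_apply, ← (zeta_commute_A b φ i x).eq, Module.End.mul_apply,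
      prj_zeta]

theorem prj_surjective : Function.Surjective (prj b φ) := by
  intro q
  refine ⟨incl b φ q, ?_⟩
  suffices prj b φ ∘ₗ incl b φ = LinearMap.id from LinearMap.congr_fun this q
  refine Finsupp.lhom_ext' fun l => LinearMap.ext_ring ?_
  simp only [incl, LinearMap.comp_apply, Finsupp.lsingle_apply, Finsupp.linearCombination_single, one_smul,
    LinearMap.id_apply]
  rw [prj_tw, dif_pos l.2]

theorem rep'_bracket (x y : L) : rep' b φ ⁅x, y⁆ = rep' b φ x * rep' b φ y - rep' b φ y * rep' b φ x := by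
  refine LinearMap.ext fun q => ?_
  obtain ⟨v, rfl⟩ := prj_surjective b φ q
  simp only [← prj_A, A_bracket, LinearMap.sub_apply, Module.End.mul_apply, map_sub]

theorem rep'_pmap (x : L) : rep' b φ (φ x) = rep' b φ x ^ p := by
  refine LinearMap.ext fun q => ?_
  obtain ⟨v, rfl⟩ := prj_surjective b φ q
  have hpow : ∀ n v, prj b φ ((Ae b x ^ n) v) = (rep' b φ x ^ n) (prj b φ v) := by
    intro n
    induction n with
    | zero => intro v; rfl
    | succ n ih => intro v; rw [pow_succ', pow_succ', Module.End.mul_apply, Module.End.mul_apply, prj_A, ih]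
  have hsemi := semi_eq (p := p) b (D := fun x => Ae b x ^ p - Ae b (φ x)) (fun x y => by
      rw [φ.map_add, map_sub, map_add, map_add, map_pow_add (A := Module.End R (P R ι)) (e := Ae b) (A_bracket b)]
      abel) (fun c x => by rw [φ.map_smul, map_smul, map_smul, smul_pow]; exact LinearMap.ext fun w => (smul_sub (c ^ p) ((Ae b x ^ p) w) (Ae b (φ x) w)).symm) x
  have h := congrArg (fun f : Module.End R (P R ι) => prj b φ (f v)) hsemi
  simp only [semi, Finsupp.linearCombination_apply, Finsupp.sum, LinearMap.sum_apply, LinearMap.smul_apply,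
    LinearMap.sub_apply, map_sum, map_smul, map_sub] at h
  rw [← hpow, ← prj_A]
  refine (sub_eq_zero.mp (h.trans (Finset.sum_eq_zero fun i _ => ?_))).symm
  rw [show prj b φ ((Ae b (b i) ^ p) v) - prj b φ (Ae b (φ (b i)) v) = prj b φ (zeta b φ i v) by
    rw [zeta, LinearMap.sub_apply, map_sub], prj_zeta, smul_zero]

omit hp in
theorem A_apply_wv_zero (x : L) : Ae b x (wv 0) = Finsupp.mapDomain (fun i => mkSL ({i} : Multiset ι)) (b.repr x) := by
  conv_lhs => rw [← b.linearCombination_repr x, Finsupp.linearCombination_apply, Finsupp.sum, map_sum,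
    LinearMap.sum_apply]
  rw [Finsupp.mapDomain, Finsupp.sum]
  refine Finset.sum_congr rfl fun i _ => ?_
  rw [map_smul, LinearMap.smul_apply, wv, Ae_apply, A_basis, act_of_le b (fun a ha => by simp [mkSL] at ha), ins_mkSL, H20PBW.z,
    Finsupp.smul_single_one]
  simp

theorem count_singleton_lt (i j : ι) : (ms (mkSL ({i} : Multiset ι))).count j < p := by
  rw [ms_mkSL, Multiset.count_singleton]
  have := hp.out.two_le
  split_ifs <;> omega

theorem rep'_injective : Function.Injective (rep' b φ) := by
  have hx : ∀ x, rep' b φ x (prj b φ (wv 0)) = Finsupp.mapDomain (fun i => (⟨mkSL ({i} : Multiset ι), count_singleton_lt i⟩ : Res p ι)) (b.repr x) := by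
    intro x
    rw [← prj_A, A_apply_wv_zero]
    generalize b.repr x = f
    induction f using Finsupp.induction_linear with
    | zero => simp
    | add f g hf hg => simp [Finsupp.mapDomain_add, hf, hg]
    | single i c =>
      rw [Finsupp.mapDomain_single, Finsupp.mapDomain_single, ← Finsupp.smul_single_one, map_smul]
      have h1 : tw b φ ({i} : Multiset ι) = Finsupp.single (mkSL {i}) (1 : R) := by
        have hq : quo p ({i} : Multiset ι) = 0 := Multiset.ext.mpr fun j => by
          rw [quo, count_sum_replicate, Multiset.count_singleton, Multiset.count_zero]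
          exact Nat.div_eq_of_lt (by have := hp.out.two_le; split_ifs <;> omega)
        have hr := quo_add_rmd (p := p) ({i} : Multiset ι)
        rw [hq, smul_zero, zero_add] at hr
        rw [tw, hq, hr, fold, Multiset.foldr_zero]
        rfl
      rw [← h1, show tw b φ ({i} : Multiset ι) = tw b φ (ms (mkSL ({i} : Multiset ι))) by rw [ms_mkSL], prj_tw, dif_pos (count_singleton_lt i), Finsupp.smul_single_one]
  intro x y h
  have h' := LinearMap.congr_fun h (prj b φ (wv 0))
  rw [hx, hx] at h'
  refine b.repr.injective (Finsupp.mapDomain_injective (fun i j hij => ?_) h')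
  have := congrArg (fun l : Res p ι => ms l.1) hij
  simpa [ms_mkSL] using this

end Decomp

include b in
theorem exists_isPSubOfAssoc_matrix [Finite ι] :
    ∃ (n : ℕ) (e : L →ₗ[R] Matrix (Fin n) (Fin n) R), PLie.IsPSubOfAssoc φ e := by
  classical
  haveI := Fintype.ofFinite ι
  haveI := Fintype.ofFinite (Res p ι)
  let B : Module.Basis (Fin (Fintype.card (Res p ι))) R (Res p ι →₀ R) :=
    Finsupp.basisSingleOne.reindex (Fintype.equivFin _)
  let M := LinearMap.toMatrixAlgEquiv B
  refine ⟨_, M.toLinearMap ∘ₗ rep' b φ, M.injective.comp (rep'_injective b φ), fun x y => ?_, fun x => ?_⟩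
  · show M (rep' b φ ⁅x, y⁆) = M (rep' b φ x) * M (rep' b φ y) - M (rep' b φ y) * M (rep' b φ x)
    rw [rep'_bracket]
    exact (map_sub M _ _).trans (congrArg₂ (· - ·) (map_mul M _ _) (map_mul M _ _))
  · show M (rep' b φ (φ x)) = M (rep' b φ x) ^ p
    rw [rep'_pmap]
    exact map_pow M _ p

end

end Groth.Agent.H20PLie
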